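import Mathlib
import Cfsg.Agent.H209.EPX.Defs_m3
import Cfsg.Agent.H934.Burn
import Cfsg.Agent.S0801
import Cfsg.Agent.H203.IF.Heis
import Cfsg.Agent.H557.LrData
import Cfsg.Agent.KFacts.RgdSL
import Cfsg.Agent.ChevalleyStructure.OrderFinal
import Cfsg.Agent.ChevalleyStructure.CardCombAll
import Cfsg.Agent.S1035
import Cfsg.Agent.FastGrp
import Cfsg.Agent.Prune
set_option linter.all false

section
prune_inst 0x7ffcfcfbafb88ddfffff7e3ffedfdffdf0e8cfffe6dffd8b3fe1abaf2bdf2b21ebe5fb8d0fe050ff9fc2e2bc10b87813f9ffcabfea6bdc7ffffd5ff45ffbee0fe5f7bd8871d68c3e1fbe2fff83f077ce7f3fffffffffffffffffffffffffffffffffffffffff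

-- part: H190/IF/Heis
section
prune_inst 0x20400410220000001c0002000020404300019200270c01c5050c400504a14020002f01c080020350002a440030000000440050001000000000080041190080802250021300000404000780b083180c00000000000000000000000000000000000000000
set_option linter.all false
open scoped Cfsg.Agent.FastGrp

/-!
# S5719 (involution fixity): the Heisenberg lemma and the pairing lemma (helper190)

* `card_le_of_pairing` : `c : B →* (P →* ℂˣ)` trivial on `B × P'` : `|B| ≤ |ker c| |P : P'|`;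
* `Heis Q R` : `[Q, Q] ≤ R ≤ Z(Q)`, and `y ↦ [x, y]` is onto `R` for `x ∈ Q` outside of `R`;
* `Heis.index_le` : `B ≤ Q`, `R` not in `B` : `|R : B ∩ R|² |Q : R| ≤ |Q : B|²`;
* `Heis.cent` : `C_Q(t)` for `t² = 1` centralising `R`, `Q` of odd order; `Heis.conj`;
* `le_of_pairing` : `X, X' , R` with `[X, X'] ≤ R` central, onto: `|X : A ∩ X| |X' : A ∩ X'| < |X|` : `R ≤ A`.
-/

set_option autoImplicit false

namespace Cfsg.Agent.H190.IF

open Subgroup
open scoped commutatorElement Pointwise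

/-- the number of linear characters trivial on a subgroup -/
theorem card_char_le {P : Type*} [Group P] [Finite P] (P' : Subgroup P) :
    Nat.card {χ : P →* ℂˣ // ∀ x ∈ P', χ x = 1} ≤ P'.index := by
  classical
  let D : Subgroup P := P' ⊔ commutator P
  have hDn : D.Normal := by
    constructor
    intro n hn g
    have h1 : g * n * g⁻¹ = ⁅g, n⁆ * n := by rw [commutatorElement_def]; group
    rw [h1]
    refine mul_mem ?_ hn
    exact (le_sup_right : commutator P ≤ D) (by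
      rw [commutator_def]
      exact commutator_mem_commutator (mem_top g) (mem_top n))
  have hcomm : ∀ a b : P ⧸ D, a * b = b * a := by
    intro a b
    induction a using QuotientGroup.induction_on with
    | H a =>
      induction b using QuotientGroup.induction_on with
      | H b =>
        rw [← QuotientGroup.mk_mul, ← QuotientGroup.mk_mul, QuotientGroup.eq]
        have h1 : (a * b)⁻¹ * (b * a) = ⁅b⁻¹, a⁻¹⁆ := by rw [commutatorElement_def]; group
        rw [h1]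
        exact (le_sup_right : commutator P ≤ D) (by
          rw [commutator_def]
          exact commutator_mem_commutator (mem_top _) (mem_top _))
  let cg : CommGroup (P ⧸ D) := { (inferInstance : Group (P ⧸ D)) with mul_comm := hcomm }
  have h1 : Nat.card ((P ⧸ D) →* ℂˣ) = Nat.card (P ⧸ D) :=
    @CommGroup.card_monoidHom_of_hasEnoughRootsOfUnity (P ⧸ D) ℂ cg _ _ _
  have hfin : Finite ((P ⧸ D) →* ℂˣ) := by
    apply Nat.finite_of_card_ne_zero
    rw [h1]
    exact Nat.card_pos.ne'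
  have h2 : Nat.card {χ : P →* ℂˣ // ∀ x ∈ P', χ x = 1} ≤ Nat.card ((P ⧸ D) →* ℂˣ) := by
    have key : ∀ χ : {χ : P →* ℂˣ // ∀ x ∈ P', χ x = 1}, D ≤ χ.1.ker := by
      intro χ
      refine sup_le (fun x hx => χ.2 x hx) ?_
      rw [commutator_def, commutator_le]
      intro a _ b _
      rw [MonoidHom.mem_ker, map_commutatorElement, commutatorElement_eq_one_iff_mul_comm]
      exact mul_comm _ _
    refine Nat.card_le_card_of_injective (fun χ => QuotientGroup.lift D χ.1 (fun x hx => key χ hx)) ?_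
    intro χ χ' h
    apply Subtype.ext
    ext x
    have h3 := DFunLike.congr_fun h (x : P ⧸ D)
    have h4 : χ.1 x = χ'.1 x := h3
    rw [h4]
  refine h2.trans ?_
  rw [h1]
  have h3 : Nat.card (P ⧸ D) = D.index := rfl
  rw [h3]
  exact Nat.le_of_dvd (Nat.pos_of_ne_zero P'.index_ne_zero_of_finite) (Subgroup.index_dvd_of_le le_sup_left)

/-- the pairing lemma -/
theorem card_le_of_pairing {B P : Type*} [Group B] [Finite B] [Group P] [Finite P] (c : B →* (P →* ℂˣ))
    (P' : Subgroup P) (h : ∀ b, ∀ x ∈ P', c b x = 1) : Nat.card B ≤ Nat.card c.ker * P'.index := by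
  have h1 : Nat.card B = Nat.card c.ker * Nat.card c.range := by
    rw [← c.ker.index_mul_card, Subgroup.index_ker, mul_comm]
  rw [h1]
  refine Nat.mul_le_mul_left _ ?_
  have hfin : Finite {χ : P →* ℂˣ // ∀ x ∈ P', χ x = 1} := by
    have h2 := card_char_le (⊥ : Subgroup P)
    have hf : Finite {χ : P →* ℂˣ // ∀ x ∈ (⊥ : Subgroup P), χ x = 1} := by
      have : Finite (P → ℂˣ) ∨ True := Or.inr trivial
      -- `P →* ℂˣ` is finite: characters have values in the roots of unity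
      have hP : Finite (P →* ℂˣ) := by
        let D : Subgroup P := commutator P
        let cg : CommGroup (Abelianization P) := inferInstance
        have h3 : Nat.card (Abelianization P →* ℂˣ) = Nat.card (Abelianization P) :=
          CommGroup.card_monoidHom_of_hasEnoughRootsOfUnity (Abelianization P) ℂ
        have h4 : Finite (Abelianization P →* ℂˣ) := by
          apply Nat.finite_of_card_ne_zero
          rw [h3]
          exact Nat.card_pos.ne'
        exact Finite.of_equiv _ Abelianization.lift.symm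
      exact Subtype.finite
    exact Finite.of_injective (fun χ : {χ : P →* ℂˣ // ∀ x ∈ P', χ x = 1} =>
      (⟨χ.1, fun x hx => by rw [mem_bot.1 hx, map_one]⟩ : {χ : P →* ℂˣ // ∀ x ∈ (⊥ : Subgroup P), χ x = 1}))
      (fun a b hab => Subtype.ext (congrArg (fun z => z.1) hab))
  refine le_trans ?_ (card_char_le P')
  refine Nat.card_le_card_of_injective
    (fun χ : c.range => (⟨χ.1, by
      obtain ⟨b, hb⟩ := χ.2
      rw [← hb]
      exact h b⟩ : {χ : P →* ℂˣ // ∀ x ∈ P', χ x = 1})) ?_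
  intro a b hab
  exact Subtype.ext (congrArg (fun z => z.1) hab)

/-- `[Q, Q] ≤ R ≤ Z(Q)`, and the commutator form is onto `R` -/
structure Heis {Y : Type*} [Group Y] (Q R : Subgroup Y) : Prop where
  le : R ≤ Q
  cen : ∀ r ∈ R, ∀ x ∈ Q, r * x = x * r
  der : ∀ x ∈ Q, ∀ y ∈ Q, ⁅x, y⁆ ∈ R
  sur : ∀ x ∈ Q, x ∉ R → ∀ r ∈ R, ∃ y ∈ Q, ⁅x, y⁆ = r


theorem exists_char {G : Type*} [Group G] [Finite G] (hc : ∀ a b : G, a * b = b * a) (N : Subgroup G) {r : G}
    (hr : r ∉ N) : ∃ χ : G →* ℂˣ, (∀ x ∈ N, χ x = 1) ∧ χ r ≠ 1 := by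
  classical
  let cg : CommGroup G := { (inferInstance : Group G) with mul_comm := hc }
  have hn : N.Normal := ⟨fun n hn g => by rw [hc g n, mul_assoc, mul_inv_cancel, mul_one]; exact hn⟩
  have hcomm : ∀ a b : G ⧸ N, a * b = b * a := by
    intro a b
    induction a using QuotientGroup.induction_on with
    | H a =>
      induction b using QuotientGroup.induction_on with
      | H b => rw [← QuotientGroup.mk_mul, ← QuotientGroup.mk_mul, hc]
  let cq : CommGroup (G ⧸ N) := { (inferInstance : Group (G ⧸ N)) with mul_comm := hcomm }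
  have h1 : (QuotientGroup.mk r : G ⧸ N) ≠ 1 := by
    rw [Ne, QuotientGroup.eq_one_iff]
    exact hr
  obtain ⟨φ, hφ⟩ := @CommGroup.exists_apply_ne_one_of_hasEnoughRootsOfUnity (G ⧸ N) ℂ cq _ _ _ _ h1
  refine ⟨φ.comp (QuotientGroup.mk' N), fun x hx => ?_, hφ⟩
  have h2 : QuotientGroup.mk' N x = 1 := (QuotientGroup.eq_one_iff x).2 hx
  rw [MonoidHom.comp_apply, h2, map_one]

section

variable {Y : Type*} [Group Y]

/-- **(PAIR)** -/
theorem pair_le [Finite Y] (B P R N B2 K : Subgroup Y) (hd : ∀ b ∈ B, ∀ y ∈ P, ⁅b, y⁆ ∈ R)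
    (hB : ∀ r ∈ R, ∀ b ∈ B, r * b = b * r) (hP : ∀ r ∈ R, ∀ y ∈ P, r * y = y * r)
    (hR : ∀ r ∈ R, ∀ s ∈ R, r * s = s * r) (hRN : ¬ R ≤ N) (hN : ∀ b ∈ B, ∀ y ∈ B2, y ∈ P → ⁅b, y⁆ ∈ N)
    (hs : ∀ b ∈ B, b ∉ K → ∀ r ∈ R, ∃ y ∈ P, ⁅b, y⁆ = r) :
    Nat.card B ≤ Nat.card (B ⊓ K : Subgroup Y) * B2.relIndex P := by
  classical
  obtain ⟨r, hr, hrN⟩ := SetLike.not_le_iff_exists.1 hRN
  obtain ⟨χ, hχ, hχr⟩ := exists_char (G := R) (fun a b => Subtype.ext (hR a a.2 b b.2)) (N.subgroupOf R)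
    (r := ⟨r, hr⟩) (fun h => hrN (mem_subgroupOf.1 h))
  have key1 : ∀ b ∈ B, ∀ x ∈ P, ∀ y ∈ P, ⁅b, x * y⁆ = ⁅b, x⁆ * ⁅b, y⁆ := by
    intro b hb x hx y hy
    have h1 : ⁅b, x * y⁆ = ⁅b, x⁆ * (x * ⁅b, y⁆ * x⁻¹) := by
      rw [commutatorElement_def, commutatorElement_def, commutatorElement_def]; group
    rw [h1, ← hP _ (hd b hb y hy) x hx, mul_inv_cancel_right]
  have key2 : ∀ b ∈ B, ∀ b' ∈ B, ∀ x ∈ P, ⁅b * b', x⁆ = ⁅b, x⁆ * ⁅b', x⁆ := by
    intro b hb b' hb' x hx
    have h1 : ⁅b * b', x⁆ = (b * ⁅b', x⁆ * b⁻¹) * ⁅b, x⁆ := by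
      rw [commutatorElement_def, commutatorElement_def, commutatorElement_def]; group
    rw [h1, ← hB _ (hd b' hb' x hx) b hb, mul_inv_cancel_right]
    exact hR _ (hd b' hb' x hx) _ (hd b hb x hx)
  let c : B →* (P →* ℂˣ) :=
    { toFun := fun b =>
        { toFun := fun x => χ ⟨⁅(b : Y), (x : Y)⁆, hd b b.2 x x.2⟩
          map_one' := by
            have : (⟨⁅(b : Y), ((1 : P) : Y)⁆, hd b b.2 _ (1 : P).2⟩ : R) = 1 := by
              apply Subtype.ext
              show ⁅(b : Y), (1 : Y)⁆ = 1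
              rw [commutatorElement_one_right]
            rw [this, map_one]
          map_mul' := fun x y => by
            rw [← map_mul]
            congr 1
            apply Subtype.ext
            exact key1 b b.2 x x.2 y y.2 }
      map_one' := by
        ext x
        have : (⟨⁅((1 : B) : Y), (x : Y)⁆, hd _ (1 : B).2 x x.2⟩ : R) = 1 := by
          apply Subtype.ext
          show ⁅(1 : Y), (x : Y)⁆ = 1
          rw [commutatorElement_one_left]
        show ((χ ⟨⁅((1 : B) : Y), (x : Y)⁆, _⟩ : ℂˣ) : ℂ) = 1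
        rw [this, map_one, Units.val_one]
      map_mul' := fun b b' => by
        ext x
        show ((χ ⟨⁅((b * b' : B) : Y), (x : Y)⁆, _⟩ : ℂˣ) : ℂ) = ((χ ⟨⁅(b : Y), (x : Y)⁆, _⟩ * χ ⟨⁅(b' : Y), (x : Y)⁆, _⟩ : ℂˣ) : ℂ)
        rw [← map_mul]
        congr 2
        apply Subtype.ext
        exact key2 b b.2 b' b'.2 x x.2 }
  have hc : ∀ (b : B) (x : P), c b x = χ ⟨⁅(b : Y), (x : Y)⁆, hd b b.2 x x.2⟩ := fun _ _ => rfl
  have h1 := card_le_of_pairing c (B2.subgroupOf P) (by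
    intro b x hx
    rw [hc]
    exact hχ _ (mem_subgroupOf.2 (hN b b.2 x (mem_subgroupOf.1 hx) x.2)))
  refine h1.trans (Nat.mul_le_mul_right _ ?_)
  refine Nat.card_le_card_of_injective (fun b : c.ker => (⟨b.1.1, b.1.2, by
    by_contra hcon
    obtain ⟨y, hy, e⟩ := hs b.1.1 b.1.2 hcon r hr
    have h2 : c b.1 ⟨y, hy⟩ = 1 := by
      rw [(MonoidHom.mem_ker).1 b.2]
      rfl
    rw [hc] at h2
    apply hχr
    rw [← h2]
    congr 1
    exact Subtype.ext e.symm⟩ : (B ⊓ K : Subgroup Y))) ?_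
  intro a b hab
  exact Subtype.ext (Subtype.ext (congrArg (fun z => z.1) hab))

theorem card_eq_relIndex_mul (A B : Subgroup Y) : Nat.card B = A.relIndex B * Nat.card (A ⊓ B : Subgroup Y) := by
  rw [Subgroup.relIndex, ← Subgroup.index_mul_card (A.subgroupOf B)]
  congr 1
  rw [← Subgroup.inf_subgroupOf_right, Nat.card_congr (Subgroup.subgroupOfEquivOfLe (inf_le_right : A ⊓ B ≤ B)).toEquiv]

variable {Q R : Subgroup Y}

theorem Heis.mem_sup (H : Heis Q R) {B : Subgroup Y} (hB : B ≤ Q) {y : Y} (hy : y ∈ B ⊔ R) :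
    ∃ b ∈ B, ∃ r ∈ R, b * r = y := by
  have hn : B ≤ normalizer (R : Set Y) := by
    intro b hb
    rw [mem_normalizer_iff]
    intro r
    have h1 : ∀ r ∈ R, b * r * b⁻¹ = r := fun r hr => by rw [← H.cen r hr b (hB hb), mul_inv_cancel_right]
    constructor
    · intro hr
      rw [h1 r hr]
      exact hr
    · intro hr
      have h2 := h1 _ hr
      have h3 : b * r * b⁻¹ = r := by
        have h4 : b * (b * r * b⁻¹) = b * r := by
          calc b * (b * r * b⁻¹) = b * (b * r * b⁻¹) * b⁻¹ * b := by group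
            _ = b * r := by rw [h2]; group
        exact mul_left_cancel h4
      rwa [h3] at hr
  have h1 : ((B ⊔ R : Subgroup Y) : Set Y) = (B : Set Y) * (R : Set Y) :=
    Subgroup.coe_mul_of_left_le_normalizer_right _ _ hn
  have h2 : y ∈ ((B ⊔ R : Subgroup Y) : Set Y) := hy
  rw [h1] at h2
  exact Set.mem_mul.1 h2

/-- **the Heisenberg lemma** -/
theorem Heis.index_le [Finite Y] (H : Heis Q R) (A : Subgroup Y) (hA : ¬ R ≤ A) :
    A.relIndex R ^ 2 * R.relIndex Q ≤ A.relIndex Q ^ 2 := by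
  have hRc : ∀ r ∈ R, ∀ s ∈ R, r * s = s * r := fun r hr s hs => H.cen r hr s (H.le hs)
  have hBQ : A ⊓ Q ≤ Q := inf_le_right
  have h1 := pair_le (A ⊓ Q) Q R A (A ⊓ Q ⊔ R) R (fun b hb y hy => H.der b (hBQ hb) y hy)
    (fun r hr b hb => H.cen r hr b (hBQ hb)) H.cen hRc hA (by
      intro b hb y hy _
      obtain ⟨b', hb', r, hr, rfl⟩ := H.mem_sup hBQ hy
      have h2 : ⁅b, b' * r⁆ = ⁅b, b'⁆ * (b' * ⁅b, r⁆ * b'⁻¹) := by
        rw [commutatorElement_def, commutatorElement_def, commutatorElement_def]; group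
      have h3 : ⁅b, r⁆ = 1 := commutatorElement_eq_one_iff_mul_comm.2 (H.cen r hr b (hBQ hb)).symm
      rw [h2, h3, mul_one, mul_inv_cancel, mul_one, commutatorElement_def]
      exact mul_mem (mul_mem (mul_mem hb.1 hb'.1) (inv_mem hb.1)) (inv_mem hb'.1))
    (fun b hb hbR r hr => H.sur b (hBQ hb) hbR r hr)
  -- the order of `(A ⊓ Q) R`
  have e1 : Nat.card Q = A.relIndex Q * Nat.card (A ⊓ Q : Subgroup Y) := card_eq_relIndex_mul A Q
  have e2 : Nat.card R = A.relIndex R * Nat.card (A ⊓ R : Subgroup Y) := card_eq_relIndex_mul A R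
  have e3 : Nat.card Q = R.relIndex Q * Nat.card R := by
    rw [card_eq_relIndex_mul R Q, inf_eq_left.2 H.le]
  have hinf : A ⊓ Q ⊓ R = A ⊓ R := by
    rw [inf_assoc, inf_eq_right.2 H.le]
  rw [hinf] at h1
  have e4 : Nat.card (A ⊓ Q ⊔ R : Subgroup Y) * Nat.card (A ⊓ R : Subgroup Y) =
      Nat.card (A ⊓ Q : Subgroup Y) * Nat.card R := by
    have hcomm : ∀ (m : (A ⊓ Q : Subgroup Y)) (n : R), Commute ((A ⊓ Q).subtype m) (R.subtype n) := fun m n =>
      (H.cen n n.2 m (hBQ m.2)).symm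
    let φ := MonoidHom.noncommCoprod (A ⊓ Q).subtype R.subtype hcomm
    have hr : φ.range = A ⊓ Q ⊔ R := by
      rw [MonoidHom.noncommCoprod_range, Subgroup.range_subtype, Subgroup.range_subtype]
    have hφ : ∀ x, φ x = (x.1 : Y) * x.2 := fun _ => rfl
    have hk : Nat.card φ.ker = Nat.card (A ⊓ R : Subgroup Y) := by
      refine Nat.card_congr
        { toFun := fun x => ⟨x.1.2, ?_, x.1.2.2⟩
          invFun := fun r => ⟨(⟨(r : Y)⁻¹, ?_⟩, ⟨r, r.2.2⟩), ?_⟩
          left_inv := ?_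
          right_inv := fun r => rfl }
      · have h2 : (x.1.1 : Y) * x.1.2 = 1 := (MonoidHom.mem_ker).1 x.2
        have h3 : (x.1.2 : Y) = (x.1.1 : Y)⁻¹ := (inv_eq_of_mul_eq_one_right h2).symm
        rw [h3]
        exact A.inv_mem x.1.1.2.1
      · exact inv_mem ⟨r.2.1, H.le r.2.2⟩
      · rw [MonoidHom.mem_ker, hφ]
        exact inv_mul_cancel _
      · intro x
        have h2 : (x.1.1 : Y) * x.1.2 = 1 := (MonoidHom.mem_ker).1 x.2
        have h3 : ((x.1.2 : Y))⁻¹ = (x.1.1 : Y) := inv_eq_of_mul_eq_one_left h2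
        apply Subtype.ext
        exact Prod.ext (Subtype.ext h3) rfl
    have h2 := φ.ker.index_mul_card
    rw [Subgroup.index_ker, hk, hr, Nat.card_prod] at h2
    exact h2
  have e5 : Nat.card Q = (A ⊓ Q ⊔ R).relIndex Q * Nat.card (A ⊓ Q ⊔ R : Subgroup Y) := by
    rw [card_eq_relIndex_mul (A ⊓ Q ⊔ R) Q, inf_eq_left.2 (sup_le hBQ H.le)]
  have hpA : 0 < Nat.card (A ⊓ R : Subgroup Y) := Nat.card_pos
  have hpQ : 0 < Nat.card (A ⊓ Q : Subgroup Y) := Nat.card_pos
  have hpR : 0 < Nat.card R := Nat.card_pos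
  have hp5 : 0 < Nat.card (A ⊓ Q ⊔ R : Subgroup Y) := Nat.card_pos
  generalize Nat.card (A ⊓ R : Subgroup Y) = x at *
  generalize Nat.card (A ⊓ Q : Subgroup Y) = y at *
  generalize Nat.card (A ⊓ Q ⊔ R : Subgroup Y) = z at *
  generalize (A ⊓ Q ⊔ R).relIndex Q = s at *
  generalize Nat.card R = R0 at *
  generalize A.relIndex R = r at *
  generalize A.relIndex Q = a at *
  generalize R.relIndex Q = ρ at *
  -- z = y r, s r = a
  have f1 : z = y * r := by
    apply Nat.eq_of_mul_eq_mul_right hpA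
    rw [e4, e2]; ring
  have f2 : a = s * r := by
    apply Nat.eq_of_mul_eq_mul_right hpQ
    rw [← e1, e5, f1]; ring
  -- ρ r x = a y
  have f3 : ρ * (r * x) = a * y := by rw [← e1, e3, e2]
  have f4 : x * (r ^ 2 * ρ) ≤ x * a ^ 2 := by
    calc x * (r ^ 2 * ρ) = r * (ρ * (r * x)) := by ring
      _ = r * a * y := by rw [f3]; ring
      _ ≤ r * a * (x * s) := Nat.mul_le_mul_left _ h1
      _ = x * (a * (s * r)) := by ring
      _ = x * a ^ 2 := by rw [← f2]; ring
  exact Nat.le_of_mul_le_mul_left f4 hpA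

/-- **the pairing lemma**: `r r' < |X|` implies `R ≤ A` -/
theorem le_of_pairing [Finite Y] {X X' R : Subgroup Y} (A : Subgroup Y) (hd : ∀ b ∈ X, ∀ y ∈ X', ⁅b, y⁆ ∈ R)
    (hX : ∀ r ∈ R, ∀ b ∈ X, r * b = b * r) (hX' : ∀ r ∈ R, ∀ y ∈ X', r * y = y * r)
    (hR : ∀ r ∈ R, ∀ s ∈ R, r * s = s * r)
    (hs : ∀ b ∈ X, b ≠ 1 → ∀ r ∈ R, ∃ y ∈ X', ⁅b, y⁆ = r)
    (hlt : A.relIndex X * A.relIndex X' < Nat.card X) : R ≤ A := by
  by_contra hcon
  have h1 := pair_le (A ⊓ X) X' R A A ⊥ (fun b hb y hy => hd b hb.2 y hy) (fun r hr b hb => hX r hr b hb.2) hX' hR hcon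
    (fun b hb y hy _ => by
      rw [commutatorElement_def]
      exact mul_mem (mul_mem (mul_mem hb.1 hy) (inv_mem hb.1)) (inv_mem hy))
    (fun b hb hb1 r hr => hs b hb.2 (fun h => hb1 (by rw [h]; exact one_mem _)) r hr)
  rw [inf_bot_eq, Subgroup.card_bot, one_mul] at h1
  rw [card_eq_relIndex_mul A X] at hlt
  exact absurd (Nat.mul_le_mul_left (A.relIndex X) h1) (not_le.2 hlt)

theorem Heis.conj (H : Heis Q R) (e : MulAut Y) : Heis (Q.map e.toMonoidHom) (R.map e.toMonoidHom) where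
  le := Subgroup.map_mono H.le
  cen := by
    rintro _ ⟨r, hr, rfl⟩ _ ⟨x, hx, rfl⟩
    have := congrArg e (H.cen r hr x hx)
    rw [map_mul, map_mul] at this
    exact this
  der := by
    rintro _ ⟨x, hx, rfl⟩ _ ⟨y, hy, rfl⟩
    exact ⟨⁅x, y⁆, H.der x hx y hy, map_commutatorElement _ _ _⟩
  sur := by
    rintro _ ⟨x, hx, rfl⟩ hxR _ ⟨r, hr, rfl⟩
    obtain ⟨y, hy, rfl⟩ := H.sur x hx (fun h => hxR ⟨x, h, rfl⟩) r hr
    exact ⟨_, ⟨y, hy, rfl⟩, (map_commutatorElement _ _ _).symm⟩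

/-- **passage to the centraliser of an involution centralising `R`** -/
theorem Heis.cent [Finite Y] (H : Heis Q R) (ho : Odd (Nat.card R)) {t : Y} (htt : t * t = 1)
    (htR : ∀ r ∈ R, t * r = r * t) (htQ : ∀ x ∈ Q, t * x * t⁻¹ ∈ Q) :
    Heis (Q ⊓ centralizer {t}) R where
  le := le_inf H.le fun r hr => mem_centralizer_singleton_iff.2 (htR r hr).symm
  cen r hr x hx := H.cen r hr x hx.1
  der x hx y hy := H.der x hx.1 y hy.1
  sur x hx hxR r hr := by
    -- a square root of `r`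
    obtain ⟨s, hs, hsr⟩ : ∃ s ∈ R, s * s = r := by
      obtain ⟨k, hk⟩ := ho
      have h1 : (⟨r, hr⟩ : R) ^ (2 * k + 1) = 1 := by rw [← hk]; exact pow_card_eq_one'
      refine ⟨r ^ (k + 1), pow_mem hr _, ?_⟩
      rw [← pow_add]
      have h2 : r ^ (2 * k + 1) = 1 := congrArg Subtype.val h1
      have h3 : k + 1 + (k + 1) = 2 * k + 1 + 1 := by ring
      rw [h3, pow_succ, h2, one_mul]
    obtain ⟨y, hy, e⟩ := H.sur x hx.1 hxR s hs
    have htx : t * x * t⁻¹ = x := by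
      rw [← mem_centralizer_singleton_iff.1 hx.2, mul_inv_cancel_right]
    have hti : t⁻¹ = t := inv_eq_of_mul_eq_one_right htt
    set y' := t * y * t⁻¹ with hy'
    have hy'Q : y' ∈ Q := htQ y hy
    have e' : ⁅x, y'⁆ = s := by
      have h1 : ⁅x, y'⁆ = t * ⁅x, y⁆ * t⁻¹ := by
        have h2 : ⁅x, y'⁆ = ⁅t * x * t⁻¹, t * y * t⁻¹⁆ := by rw [htx]
        rw [h2, commutatorElement_def, commutatorElement_def]; group
      rw [h1, e, htR s hs, mul_inv_cancel_right]
    have hty' : t * y' * t⁻¹ = y := by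
      rw [hy', hti]
      calc t * (t * y * t) * t = (t * t) * y * (t * t) := by group
        _ = y := by rw [htt, one_mul, mul_one]
    -- `y y'` commutes with `t`
    set c := ⁅y', y⁆ with hc
    have hcR : c ∈ R := H.der _ hy'Q _ hy
    have h1 : t * (y * y') * t⁻¹ = c * (y * y') := by
      have h2 : t * (y * y') * t⁻¹ = (t * y * t⁻¹) * (t * y' * t⁻¹) := by group
      rw [h2, hty', ← hy', hc, commutatorElement_def]; group
    have hcc : c * c = 1 := by
      have h3 : t * (t * (y * y') * t⁻¹) * t⁻¹ = y * y' := by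
        have h4 : t * (t * (y * y') * t⁻¹) * t⁻¹ = (t * t) * (y * y') * (t * t)⁻¹ := by group
        rw [h4, htt, one_mul, inv_one, mul_one]
      rw [h1] at h3
      have h5 : t * (c * (y * y')) * t⁻¹ = c * (t * (y * y') * t⁻¹) := by
        have h6 := htR c hcR
        calc t * (c * (y * y')) * t⁻¹ = (t * c) * (y * y') * t⁻¹ := by group
          _ = c * (t * (y * y') * t⁻¹) := by rw [h6]; group
      rw [h5, h1, ← mul_assoc] at h3
      exact mul_eq_right.1 h3
    have hc1 : c = 1 := by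
      have h2 : orderOf (⟨c, hcR⟩ : R) ∣ 2 := orderOf_dvd_of_pow_eq_one (by
        rw [pow_two]
        exact Subtype.ext hcc)
      have h3 : orderOf (⟨c, hcR⟩ : R) ∣ Nat.card R := orderOf_dvd_natCard _
      have h4 : orderOf (⟨c, hcR⟩ : R) ∣ 1 := by
        rw [← Nat.Coprime.gcd_eq_one (Nat.coprime_two_left.2 ho)]
        exact Nat.dvd_gcd h2 h3
      exact congrArg Subtype.val (orderOf_eq_one_iff.1 (Nat.dvd_one.1 h4))
    refine ⟨y * y', ⟨mul_mem hy hy'Q, ?_⟩, ?_⟩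
    · rw [hc1, one_mul, mul_inv_eq_iff_eq_mul] at h1
      exact mem_centralizer_singleton_iff.2 h1.symm
    · have h2 : ⁅x, y * y'⁆ = ⁅x, y⁆ * (y * ⁅x, y'⁆ * y⁻¹) := by
        rw [commutatorElement_def, commutatorElement_def, commutatorElement_def]; group
      rw [h2, e, e', ← H.cen s hs y hy, mul_inv_cancel_right, hsr]

end

end Cfsg.Agent.H190.IF
end

-- part: H255/IF/Key
section
prune_inst 0x3000040022000000000012000020404200019200230c00c5010c400c40214100022700b890060351002aa440380060004400590000000000000200411d00808000500013100c04140007809083080c00000000000000000000000000000000000000000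
set_option linter.all false
open scoped Cfsg.Agent.FastGrp

/-!
# S5719, exceptional groups, `q` even: abstract lemmas (helper255)

* `Fix A` : the consequence of `IF A Γ` used (invariant under conjugation, `Fix.conj`);
* `iso` : isotropic subgroups of a group `Q` with `[x, Q] = Z` for `x ∈ Q ∖ W`, `W` central, are small;
* `index_centralizer_le` : classes meeting a subgroup with a large normaliser;
* `s1`, `s2`, `s13`, `s3` : the numerical steps.
-/

set_option autoImplicit false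
set_option linter.unusedSectionVars false

namespace Cfsg.Agent.H255.IFK

open MulAction Subgroup Cfsg.Agent.H209.Fxy Cfsg.Agent.H934.Burn

open scoped Pointwise

section Fix

variable {T : Type*} [Group T]

/-- The consequence of `IF A Γ` used. -/
def Fix (A : Subgroup T) : Prop :=
  ∀ t ∈ A, orderOf t = 2 → ∃ f : ℕ, (∀ B : Subgroup T, B ≤ centralizer ({t} : Set T) → A.relIndex B ≤ f) ∧
    f ^ 5 * {u : T | u ∈ A ∧ IsConj t u}.ncard < (centralizer ({t} : Set T)).index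

theorem fix_of_IF [Finite T] [IsSimpleGroup T] {A : Subgroup T} {Γ : Subgroup (MulAut T)} (h : IF A Γ)
    (hna : ∃ a b : T, a * b ≠ b * a) : Fix A := by
  intro t ht h2
  have hσ : MulAut.conj t ∈ Γ := (h.conj t).2 ht
  obtain ⟨ho, hc, -, -, -⟩ := H999.IFB.IF.E2' h hna ht h2
  refine ⟨fx A (MulAut.conj t), fun B hB => ?_, ?_⟩
  · refine (H999.IFB.IF.E1 h hσ ho (B := B) fun b hb => ?_).1
    have := Subgroup.mem_centralizer_singleton_iff.1 (hB hb)
    rw [MulAut.conj_apply, mul_inv_eq_iff_eq_mul]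
    exact this.symm
  · rw [← hc]
    have h1 := H999.IFB.IF.fix_formula' h hσ
    have h3 := h.small _ hσ ho
    have h4 : {u : T | u ∈ A ∧ IsConj t u}.ncard ≤ (H999.IFB.icl (MulAut.conj t) ∩ (Γ : Set (MulAut T))).ncard := by
      refine Set.ncard_le_ncard_of_injOn (fun u => MulAut.conj u) ?_ ?_ (Set.toFinite _)
      · rintro u ⟨hu, hu'⟩
        obtain ⟨c, hc⟩ := isConj_iff.1 hu'
        refine ⟨⟨c, ?_⟩, (h.conj u).2 hu⟩
        show MulAut.conj u = _
        rw [← hc, map_mul, map_mul, map_inv]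
      · intro u _ v _ huv
        have h5 : MulAut.conj (u * v⁻¹) = 1 := by
          have : MulAut.conj u = MulAut.conj v := huv
          rw [map_mul, map_inv, this, mul_inv_cancel]
        have h6 : u * v⁻¹ = 1 := by
          apply H999.IFB.center_of hna
          intro x
          have h7 := congrArg (fun τ : MulAut T => τ x) h5
          simp only [MulAut.conj_apply, MulAut.one_apply] at h7
          rwa [mul_inv_eq_iff_eq_mul] at h7
        exact mul_inv_eq_one.1 h6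
    have h5 := H999.IFB.fx_pos A (MulAut.conj t)
    set N := (H999.IFB.icl (MulAut.conj t) ∩ (Γ : Set (MulAut T))).ncard with hN
    have h6 : 0 < N := (Set.ncard_pos (Set.toFinite _)).2 ⟨MulAut.conj t, ⟨1, by simp⟩, hσ⟩
    have h7 : fx A (MulAut.conj t) * (fx A (MulAut.conj t) ^ 5 * N) <
        fx A (MulAut.conj t) * (H999.IFB.icl (MulAut.conj t)).ncard := by
      rw [h1]
      calc fx A (MulAut.conj t) * (fx A (MulAut.conj t) ^ 5 * N) = fx A (MulAut.conj t) ^ 6 * N := by ring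
        _ < A.index * N := Nat.mul_lt_mul_of_pos_right h3 h6
    exact lt_of_le_of_lt (Nat.mul_le_mul_left _ h4) (lt_of_mul_lt_mul_left h7 (Nat.zero_le _))

theorem mem_conj {A : Subgroup T} {g x : T} : x ∈ MulAut.conj g • A ↔ g⁻¹ * x * g ∈ A := by
  rw [Subgroup.mem_pointwise_smul_iff_inv_smul_mem, ← map_inv]
  simp [MulAut.smul_def, MulAut.conj_apply]

theorem conj_mem_conj {A : Subgroup T} {g x : T} (hx : x ∈ A) : g * x * g⁻¹ ∈ MulAut.conj g • A := by
  rw [mem_conj]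
  have : g⁻¹ * (g * x * g⁻¹) * g = x := by group
  rwa [this]

theorem index_centralizer_conj {t z : T} (h : IsConj t z) :
    (centralizer ({t} : Set T)).index = (centralizer ({z} : Set T)).index := by
  obtain ⟨c, hc⟩ := isConj_iff.1 h
  have h1 : centralizer ({z} : Set T) = MulAut.conj c • centralizer ({t} : Set T) := by
    ext x
    rw [mem_conj, Subgroup.mem_centralizer_singleton_iff, Subgroup.mem_centralizer_singleton_iff, ← hc]
    constructor
    · intro h
      calc c⁻¹ * x * c * t = c⁻¹ * (x * (c * t * c⁻¹)) * c := by group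
        _ = c⁻¹ * ((c * t * c⁻¹) * x) * c := by rw [h]
        _ = _ := by group
    · intro h
      calc x * (c * t * c⁻¹) = c * (c⁻¹ * x * c * t) * c⁻¹ := by group
        _ = c * (t * (c⁻¹ * x * c)) * c⁻¹ := by rw [h]
        _ = _ := by group
  rw [h1]
  have h2 := Subgroup.relIndex_pointwise_smul (MulAut.conj c) (centralizer ({t} : Set T)) ⊤
  have h3 : MulAut.conj c • (⊤ : Subgroup T) = ⊤ := by
    rw [Subgroup.eq_top_iff']
    intro x
    rw [mem_conj]
    exact mem_top _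
  rw [h3, Subgroup.relIndex_top_right, Subgroup.relIndex_top_right] at h2
  exact h2.symm

theorem Fix.conj [Finite T] {A : Subgroup T} (h : Fix A) (g : T) : Fix (MulAut.conj g • A) := by
  intro t ht h2
  rw [mem_conj] at ht
  have hcj : IsConj t (g⁻¹ * t * g) := isConj_iff.2 ⟨g⁻¹, by rw [inv_inv]⟩
  have ho : orderOf (g⁻¹ * t * g) = 2 := by
    rw [← h2]
    have := orderOf_injective (MulAut.conj g⁻¹).toMonoidHom (MulAut.conj g⁻¹).injective t
    rw [← this]
    congr 1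
    simp [MulAut.conj_apply]
  obtain ⟨f, h3, h4⟩ := h _ ht ho
  refine ⟨f, fun B hB => ?_, ?_⟩
  · have h5 := h3 (MulAut.conj g⁻¹ • B) (by
      intro x hx
      rw [mem_conj, inv_inv] at hx
      have h6 := Subgroup.mem_centralizer_singleton_iff.1 (hB hx)
      rw [Subgroup.mem_centralizer_singleton_iff]
      calc x * (g⁻¹ * t * g) = g⁻¹ * ((g * x * g⁻¹) * t) * g := by group
        _ = g⁻¹ * (t * (g * x * g⁻¹)) * g := by rw [h6]
        _ = _ := by group)
    have h6 : A.relIndex (MulAut.conj g⁻¹ • B) = (MulAut.conj g • A).relIndex B := by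
      have h7 := Subgroup.relIndex_pointwise_smul (MulAut.conj g) A (MulAut.conj g⁻¹ • B)
      rw [smul_smul, ← map_mul, mul_inv_cancel, map_one, one_smul] at h7
      exact h7.symm
    rw [← h6]
    exact h5
  · rw [index_centralizer_conj hcj]
    refine lt_of_le_of_lt (Nat.mul_le_mul_left _ ?_) h4
    refine Set.ncard_le_ncard_of_injOn (fun u => g⁻¹ * u * g) ?_ ?_ (Set.toFinite _)
    · rintro u ⟨hu, hu'⟩
      rw [mem_conj] at hu
      exact ⟨hu, hcj.symm.trans (hu'.trans (isConj_iff.2 ⟨g⁻¹, by rw [inv_inv]⟩))⟩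
    · intro u _ v _ huv
      have : g⁻¹ * u * g = g⁻¹ * v * g := huv
      exact mul_left_cancel (mul_right_cancel this)

end Fix

section Iso

variable {G : Type*} [Group G]

theorem card_mul_rel {H K : Subgroup G} (h : H ≤ K) : Nat.card H * H.relIndex K = Nat.card K := by
  unfold Subgroup.relIndex
  rw [← Nat.card_congr (Subgroup.subgroupOfEquivOfLe h).toEquiv, Subgroup.card_mul_index]

theorem card_inf_mul_rel (A B : Subgroup G) : Nat.card (A ⊓ B : Subgroup G) * A.relIndex B = Nat.card B := by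
  rw [← Subgroup.inf_relIndex_right, card_mul_rel inf_le_right]

/-- `Q` with `[Q, Q] ≤ Z ≤ W ≤ Z(Q)` and `[x, Q] = Z` for `x ∈ Q ∖ W`. -/
structure Sp (Z W Q : Subgroup G) : Prop where
  le : Z ≤ W
  le' : W ≤ Q
  central : ∀ w ∈ W, ∀ x ∈ Q, x * w = w * x
  comm_mem : ∀ x ∈ Q, ∀ y ∈ Q, x * y * x⁻¹ * y⁻¹ ∈ Z
  special : ∀ x ∈ Q, x ∉ W → ∀ z ∈ Z, ∃ y ∈ Q, x * y * x⁻¹ * y⁻¹ = z

variable {Z W Q : Subgroup G}

/-- A character of a finite commutative group trivial on a proper subgroup. -/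
theorem exists_char {Z : Type*} [Group Z] [Finite Z] (hc : ∀ a b : Z, a * b = b * a) (R : Subgroup Z) (hR : R ≠ ⊤) :
    ∃ lam : Z →* ℂ, (∀ r ∈ R, lam r = 1) ∧ ∃ z, lam z ≠ 1 := by
  let _ : CommGroup Z := { (inferInstance : Group Z) with mul_comm := hc }
  have hn : R.Normal := inferInstance
  obtain ⟨t, ht⟩ : ∃ t, t ∉ R := by
    by_contra hcon
    push Not at hcon
    exact hR ((Subgroup.eq_top_iff' R).2 hcon)
  have ht1 : (QuotientGroup.mk t : Z ⧸ R) ≠ 1 := fun h => ht ((QuotientGroup.eq_one_iff t).1 h)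
  have hexp : Monoid.exponent (Z ⧸ R) ≠ 0 := Monoid.exponent_ne_zero_of_finite
  have : NeZero (Monoid.exponent (Z ⧸ R)) := ⟨hexp⟩
  obtain ⟨φ, hφ⟩ := CommGroup.exists_apply_ne_one_of_hasEnoughRootsOfUnity (Z ⧸ R) ℂ ht1
  refine ⟨((Units.coeHom ℂ).comp φ).comp (QuotientGroup.mk' R), ?_, t, fun h0 => hφ (Units.ext h0)⟩
  intro r hr
  show ((φ (QuotientGroup.mk r) : ℂˣ) : ℂ) = 1
  rw [(QuotientGroup.eq_one_iff r).2 hr, map_one, Units.val_one]

/-- **Isotropic subgroups are small.** -/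
theorem iso [Finite G] (h : Sp Z W Q) {R : Subgroup G} (hR : R ≤ Q) (hRZ : ¬ Z ≤ R) :
    Nat.card R ^ 2 * Nat.card W ≤ Nat.card Q * Nat.card (R ⊓ W : Subgroup G) ^ 2 := by
  classical
  have := Fintype.ofFinite Q
  have := Fintype.ofFinite G
  have hZQ : Z ≤ Q := h.le.trans h.le'
  have hzc : ∀ z ∈ Z, ∀ x ∈ Q, x * z = z * x := fun z hz x hx => h.central z (h.le hz) x hx
  obtain ⟨lam, hl1, z0, hz0⟩ := exists_char (Z := Z)
    (fun a b => Subtype.ext (hzc b b.2 a (hZQ a.2))) (R.subgroupOf Z) (by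
      intro htop
      apply hRZ
      intro z hz
      have : (⟨z, hz⟩ : Z) ∈ R.subgroupOf Z := by rw [htop]; exact mem_top _
      exact this)
  -- the pairing
  set b : Q → Q → ℂ := fun x y => lam ⟨(x : G) * y * (x : G)⁻¹ * (y : G)⁻¹, h.comm_mem x x.2 y y.2⟩ with hb
  have bml : ∀ x x' y : Q, b (x * x') y = b x y * b x' y := by
    intro x x' y
    rw [hb]
    show lam _ = lam _ * lam _
    rw [← map_mul]
    congr 1
    apply Subtype.ext
    show (x : G) * x' * y * ((x : G) * x')⁻¹ * (y : G)⁻¹ =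
      (x * y * (x : G)⁻¹ * (y : G)⁻¹) * (x' * y * (x' : G)⁻¹ * (y : G)⁻¹)
    have hm := h.comm_mem x' x'.2 y y.2
    have h1 := hzc _ hm (x : G) x.2
    have h2 := hzc _ hm ((x : G) * y * (x : G)⁻¹ * (y : G)⁻¹) (hZQ (h.comm_mem x x.2 y y.2))
    rw [h2]
    calc (x : G) * x' * y * ((x : G) * x')⁻¹ * (y : G)⁻¹
        = ((x : G) * (x' * y * (x' : G)⁻¹ * (y : G)⁻¹)) * (y * (x : G)⁻¹ * (y : G)⁻¹) := by group
      _ = _ := by rw [h1]; group
  have bmr : ∀ x y y' : Q, b x (y * y') = b x y * b x y' := by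
    intro x y y'
    rw [hb]
    show lam _ = lam _ * lam _
    rw [← map_mul]
    congr 1
    apply Subtype.ext
    have h1 := hzc _ (h.comm_mem x x.2 y' y'.2) (y : G) y.2
    show (x : G) * (y * y') * (x : G)⁻¹ * ((y : G) * y')⁻¹ =
      (x * y * (x : G)⁻¹ * (y : G)⁻¹) * (x * y' * (x : G)⁻¹ * (y' : G)⁻¹)
    calc (x : G) * (y * y') * (x : G)⁻¹ * ((y : G) * y')⁻¹
        = ((x : G) * y * (x : G)⁻¹ * (y : G)⁻¹) * ((y : G) * (x * y' * (x : G)⁻¹ * (y' : G)⁻¹)) * (y : G)⁻¹ := by group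
      _ = _ := by rw [h1]; group
  have b1 : ∀ x y : Q, (x : G) ∈ W → b x y = 1 := by
    intro x y hx
    rw [hb]
    show lam _ = 1
    rw [show (⟨(x : G) * y * (x : G)⁻¹ * (y : G)⁻¹, h.comm_mem x x.2 y y.2⟩ : Z) = 1 from
      Subtype.ext (by
        show (x : G) * y * (x : G)⁻¹ * (y : G)⁻¹ = 1
        rw [← h.central _ hx y y.2]; group)]
    exact map_one lam
  have b2 : ∀ x y : Q, (y : G) ∈ W → b x y = 1 := by
    intro x y hy
    rw [hb]
    show lam _ = 1
    rw [show (⟨(x : G) * y * (x : G)⁻¹ * (y : G)⁻¹, h.comm_mem x x.2 y y.2⟩ : Z) = 1 from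
      Subtype.ext (by
        show (x : G) * y * (x : G)⁻¹ * (y : G)⁻¹ = 1
        rw [h.central _ hy x x.2]; group)]
    exact map_one lam
  have b3 : ∀ x : Q, (x : G) ∉ W → ∃ y, b x y ≠ 1 := by
    intro x hx
    obtain ⟨y, hy, hz⟩ := h.special x x.2 hx z0 z0.2
    refine ⟨⟨y, hy⟩, ?_⟩
    rw [hb]
    show lam _ ≠ 1
    rw [show (⟨(x : G) * y * (x : G)⁻¹ * y⁻¹, h.comm_mem x x.2 y hy⟩ : Z) = z0 from Subtype.ext hz]
    exact hz0
  let bl : Q → Q →* ℂ := fun x =>
    { toFun := b x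
      map_one' := b2 x 1 (one_mem _)
      map_mul' := bmr x }
  let br : Q → Q →* ℂ := fun y =>
    { toFun := fun x => b x y
      map_one' := b1 1 y (one_mem _)
      map_mul' := fun x x' => bml x x' y }
  set R' : Subgroup Q := R.subgroupOf Q with hR'
  set Z' : Subgroup Q := W.subgroupOf Q with hZ'
  have hcR : Nat.card R' = Nat.card R := Nat.card_congr (Subgroup.subgroupOfEquivOfLe hR).toEquiv
  have hcZ : Nat.card Z' = Nat.card W := Nat.card_congr (Subgroup.subgroupOfEquivOfLe h.le').toEquiv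
  have hcRZ : Nat.card (R' ⊓ Z' : Subgroup Q) = Nat.card (R ⊓ W : Subgroup G) := by
    rw [hR', hZ']
    show Nat.card ((R ⊓ W).subgroupOf Q) = _
    exact Nat.card_congr (Subgroup.subgroupOfEquivOfLe (inf_le_left.trans hR)).toEquiv
  have hZn : Z'.Normal := by
    constructor
    intro z hz g
    rw [hZ', Subgroup.mem_subgroupOf] at hz ⊢
    have h1 : ((g * z * g⁻¹ : Q) : G) = z := by
      show (g : G) * z * (g : G)⁻¹ = z
      rw [h.central _ hz g g.2]; group
    rw [h1]; exact hz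
  have hrow : ∀ x : R', ∑ y : Q, b x y = if (x : Q) ∈ Z' then (Nat.card Q : ℂ) else 0 := by
    intro x
    have h1 := sum_hom_units (bl x)
    rw [show ∑ y : Q, b x y = ∑ y : Q, bl x y from rfl, h1]
    by_cases hx : (x : Q) ∈ Z'
    · rw [if_pos hx, if_pos, Nat.card_eq_fintype_card]
      ext y
      exact b1 x y hx
    · rw [if_neg hx, if_neg, Nat.cast_zero]
      intro h2
      obtain ⟨y, hy⟩ := b3 x hx
      exact hy (DFunLike.congr_fun h2 y)
  have hcol : ∀ y : Q, ∑ x : R', b x y =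
      if (∀ x : R', b x y = 1) then (Nat.card R' : ℂ) else 0 := by
    intro y
    have h1 := sum_hom_units ((br y).comp R'.subtype)
    rw [show ∑ x : R', b x y = ∑ x : R', ((br y).comp R'.subtype) x from rfl, h1]
    by_cases hx : ∀ x : R', b x y = 1
    · rw [if_pos hx, if_pos, Nat.card_eq_fintype_card]
      ext x
      exact hx x
    · rw [if_neg hx, if_neg, Nat.cast_zero]
      intro h2
      exact hx fun x => DFunLike.congr_fun h2 x
  have hS1 : ∑ x : R', ∑ y : Q, b x y = (Nat.card (R' ⊓ Z' : Subgroup Q) : ℂ) * Nat.card Q := by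
    rw [Finset.sum_congr rfl fun x _ => hrow x, ← Finset.sum_filter, Finset.sum_const, nsmul_eq_mul]
    congr 2
    rw [← Fintype.card_subtype, ← Nat.card_eq_fintype_card]
    refine Nat.card_congr ⟨fun x => ⟨(x : R'), Subgroup.mem_inf.2 ⟨(x : R').2, x.2⟩⟩,
      fun x => ⟨⟨x, (Subgroup.mem_inf.1 x.2).1⟩, (Subgroup.mem_inf.1 x.2).2⟩, fun _ => rfl, fun _ => rfl⟩
  have hS2 : ∑ x : R', ∑ y : Q, b x y =
      (Nat.card {y : Q // ∀ x : R', b x y = 1} : ℂ) * Nat.card R' := by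
    rw [Finset.sum_comm, Finset.sum_congr rfl fun y _ => hcol y, ← Finset.sum_filter, Finset.sum_const, nsmul_eq_mul,
      ← Fintype.card_subtype, ← Nat.card_eq_fintype_card]
  have hS : Nat.card (R' ⊓ Z' : Subgroup Q) * Nat.card Q =
      Nat.card {y : Q // ∀ x : R', b x y = 1} * Nat.card R' := by
    have := hS1.symm.trans hS2
    exact_mod_cast this
  have hge : Nat.card (R' ⊔ Z' : Subgroup Q) ≤ Nat.card {y : Q // ∀ x : R', b x y = 1} := by
    refine Nat.card_le_card_of_injective (fun y => ⟨(y : Q), ?_⟩) fun y y' hyy => ?_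
    · intro x
      obtain ⟨r, hr, z, hz, hrz⟩ := Subgroup.mem_sup_of_normal_right.1 y.2
      rw [← hrz, bmr, b2 x z hz, mul_one]
      rw [hb]
      show lam _ = 1
      apply hl1
      rw [Subgroup.mem_subgroupOf]
      exact mul_mem (mul_mem (mul_mem x.2 hr) (inv_mem x.2)) (inv_mem hr)
    · exact Subtype.ext (congrArg (fun w : {y : Q // ∀ x : R', b x y = 1} => (w : Q)) hyy)
  have hsup : Nat.card (R' ⊔ Z' : Subgroup Q) * Nat.card (R' ⊓ Z' : Subgroup Q) = Nat.card R' * Nat.card Z' := by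
    have h1 : Z'.relIndex (R' ⊔ Z') = Z'.relIndex R' := Subgroup.relIndex_sup_right _ _
    have h2 := card_mul_rel (H := Z') (K := R' ⊔ Z') le_sup_right
    have h3 := card_mul_rel (H := Z' ⊓ R') (K := R') inf_le_right
    rw [Subgroup.inf_relIndex_right] at h3
    rw [h1] at h2
    rw [← h2, inf_comm, ← h3]
    ring
  rw [← hcR, ← hcZ, ← hcRZ]
  have h4 : Nat.card R' * Nat.card Z' * Nat.card R' ≤
      (Nat.card (R' ⊓ Z' : Subgroup Q) * Nat.card Q) * Nat.card (R' ⊓ Z' : Subgroup Q) := by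
    rw [hS, ← hsup]
    calc Nat.card (R' ⊔ Z' : Subgroup Q) * Nat.card (R' ⊓ Z' : Subgroup Q) * Nat.card R'
        ≤ Nat.card {y : Q // ∀ x : R', b x y = 1} * Nat.card (R' ⊓ Z' : Subgroup Q) * Nat.card R' :=
          Nat.mul_le_mul_right _ (Nat.mul_le_mul_right _ hge)
      _ = _ := by ring
  calc Nat.card R' ^ 2 * Nat.card Z' = Nat.card R' * Nat.card Z' * Nat.card R' := by ring
    _ ≤ _ := h4
    _ = _ := by ring

/-- Centralisers in `Q` of elements of `Q` are large. -/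
theorem card_centralizer_ge [Finite G] (h : Sp Z W Q) {R : Subgroup G} (hR : R ≤ Q) {t : G} (ht : t ∈ Q) :
    Nat.card R ≤ Nat.card (R ⊓ centralizer ({t} : Set G) : Subgroup G) * Nat.card Z := by
  set C := centralizer ({t} : Set G) with hC
  have h1 := card_inf_mul_rel C R
  rw [inf_comm, ← h1]
  refine Nat.mul_le_mul_left _ ?_
  show Nat.card (R ⧸ C.subgroupOf R) ≤ _
  let φ : (R ⧸ C.subgroupOf R) → Z := Quotient.lift
    (fun r : R => (⟨(r : G) * t * (r : G)⁻¹ * t⁻¹, h.comm_mem r (hR r.2) t ht⟩ : Z)) (by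
      intro a b hab
      have h2 : a⁻¹ * b ∈ C.subgroupOf R := QuotientGroup.leftRel_apply.1 hab
      rw [Subgroup.mem_subgroupOf, hC, Subgroup.mem_centralizer_singleton_iff] at h2
      apply Subtype.ext
      show (a : G) * t * (a : G)⁻¹ * t⁻¹ = (b : G) * t * (b : G)⁻¹ * t⁻¹
      have h3 : (b : G) = a * ((a⁻¹ * b : R) : G) := by simp
      rw [h3]
      congr 1
      calc (a : G) * t * (a : G)⁻¹ = a * (t * ((a⁻¹ * b : R) : G)) * (((a⁻¹ * b : R) : G))⁻¹ * (a : G)⁻¹ := by group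
        _ = a * (((a⁻¹ * b : R) : G) * t) * (((a⁻¹ * b : R) : G))⁻¹ * (a : G)⁻¹ := by rw [h2]
        _ = _ := by group)
  refine Nat.card_le_card_of_injective φ ?_
  intro a b hab
  induction a using QuotientGroup.induction_on with
  | H a =>
    induction b using QuotientGroup.induction_on with
    | H b =>
      have h2 : (a : G) * t * (a : G)⁻¹ * t⁻¹ = (b : G) * t * (b : G)⁻¹ * t⁻¹ := congrArg Subtype.val hab
      have h3 := mul_right_cancel h2
      rw [QuotientGroup.eq, Subgroup.mem_subgroupOf, hC, Subgroup.mem_centralizer_singleton_iff]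
      show ((a : G)⁻¹ * b) * t = t * ((a : G)⁻¹ * b)
      calc ((a : G)⁻¹ * b) * t = (a : G)⁻¹ * ((b : G) * t * (b : G)⁻¹) * b := by group
        _ = (a : G)⁻¹ * ((a : G) * t * (a : G)⁻¹) * b := by rw [h3]
        _ = _ := by group

end Iso

section Cls

variable {T : Type*} [Group T] [Finite T]

/-- A class meeting `Q`. -/
theorem index_centralizer_le {N Q : Subgroup T} (hN : ∀ n ∈ N, ∀ x ∈ Q, n * x * n⁻¹ ∈ Q) {t : T} (ht : t ∈ Q) :
    (centralizer ({t} : Set T)).index ≤ N.index * Nat.card Q := by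
  set C := centralizer ({t} : Set T) with hC
  have h1 : C.index ≤ (C ⊓ N).index := Subgroup.index_antitone inf_le_left
  have h2 : (C ⊓ N).index = C.relIndex N * N.index := by
    rw [← Subgroup.inf_relIndex_right]
    exact (Subgroup.relIndex_mul_index inf_le_right).symm
  rw [h2, mul_comm] at h1
  refine h1.trans (Nat.mul_le_mul_left _ ?_)
  show Nat.card (N ⧸ C.subgroupOf N) ≤ _
  let φ : (N ⧸ C.subgroupOf N) → Q := Quotient.lift
    (fun r : N => (⟨(r : T) * t * (r : T)⁻¹, hN r r.2 t ht⟩ : Q)) (by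
      intro a b hab
      have h2 : a⁻¹ * b ∈ C.subgroupOf N := QuotientGroup.leftRel_apply.1 hab
      rw [Subgroup.mem_subgroupOf, hC, Subgroup.mem_centralizer_singleton_iff] at h2
      apply Subtype.ext
      show (a : T) * t * (a : T)⁻¹ = (b : T) * t * (b : T)⁻¹
      have h3 : (b : T) = a * ((a⁻¹ * b : N) : T) := by simp
      rw [h3]
      calc (a : T) * t * (a : T)⁻¹ = a * (t * ((a⁻¹ * b : N) : T)) * (((a⁻¹ * b : N) : T))⁻¹ * (a : T)⁻¹ := by group
        _ = a * (((a⁻¹ * b : N) : T) * t) * (((a⁻¹ * b : N) : T))⁻¹ * (a : T)⁻¹ := by rw [h2]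
        _ = _ := by group)
  refine Nat.card_le_card_of_injective φ ?_
  intro a b hab
  induction a using QuotientGroup.induction_on with
  | H a =>
    induction b using QuotientGroup.induction_on with
    | H b =>
      have h3 : (a : T) * t * (a : T)⁻¹ = (b : T) * t * (b : T)⁻¹ := congrArg Subtype.val hab
      rw [QuotientGroup.eq, Subgroup.mem_subgroupOf, hC, Subgroup.mem_centralizer_singleton_iff]
      show ((a : T)⁻¹ * b) * t = t * ((a : T)⁻¹ * b)
      calc ((a : T)⁻¹ * b) * t = (a : T)⁻¹ * ((b : T) * t * (b : T)⁻¹) * b := by group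
        _ = (a : T)⁻¹ * ((a : T) * t * (a : T)⁻¹) * b := by rw [h3]
        _ = _ := by group

variable {Z W Q A : Subgroup T}

theorem rel_ge {B : Subgroup T} {f : ℕ} (h : A.relIndex B ≤ f) : Nat.card B ≤ Nat.card (A ⊓ B : Subgroup T) * f := by
  rw [← card_inf_mul_rel A B]
  exact Nat.mul_le_mul_left _ h

/-- **(S1)** A root involution of `A` in `Q`, `Z ≰ A`. (`q ^ m = n`) -/
theorem s1 (hA : Fix A) (hS : Sp Z Z Q) {q n : ℕ} (hZ : Nat.card Z = q) (hQ : Nat.card Q = q * n ^ 2) {t : T}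
    (ht : t ∈ A) (htQ : t ∈ Q) (htZ : t ∉ Z) (ho : orderOf t = 2) (hcj : ∀ z ∈ Z, z ≠ 1 → IsConj t z)
    (hZA : ¬ Z ≤ A) : 16 * n ^ 5 < q ^ 4 * (centralizer ({t} : Set T)).index := by
  obtain ⟨f, h1, h2⟩ := hA t ht ho
  have hq : 0 < q := by rw [← hZ]; exact Nat.card_pos
  set a := Nat.card (A ⊓ Z : Subgroup T) with ha
  have ha0 : 0 < a := Nat.card_pos
  -- `2 a ≤ q`
  have ha2 : 2 * a ≤ q := by
    have h3 := card_inf_mul_rel A Z
    have h4 : A.relIndex Z ≠ 1 := fun h => hZA (Subgroup.relIndex_eq_one.1 h)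
    have h5 : A.relIndex Z ≠ 0 := by
      intro h0
      rw [h0, mul_zero, hZ] at h3
      omega
    rw [← ha, hZ] at h3
    rw [← h3]
    have : 2 ≤ A.relIndex Z := by omega
    calc 2 * a = a * 2 := mul_comm _ _
      _ ≤ _ := Nat.mul_le_mul_left _ this
  set B := Q ⊓ centralizer ({t} : Set T) with hB
  have h3 := rel_ge (h1 B inf_le_right)
  -- `|B| ≥ n ^ 2`
  have h4 : n ^ 2 ≤ Nat.card B := by
    have h5 := card_centralizer_ge hS le_rfl htQ
    rw [hQ, hZ, mul_comm] at h5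
    exact Nat.le_of_mul_le_mul_right h5 hq
  -- `|A ∩ B| ≤ n a`
  have h5 : Nat.card (A ⊓ B : Subgroup T) ≤ n * a := by
    have hle : (A ⊓ B : Subgroup T) ≤ A ⊓ Q := le_inf inf_le_left (inf_le_right.trans inf_le_left)
    have h6 := iso hS (R := A ⊓ Q) inf_le_right (fun h => hZA (h.trans inf_le_left))
    rw [hZ, hQ] at h6
    have h7 : (A ⊓ Q ⊓ Z : Subgroup T) = A ⊓ Z := by
      rw [inf_assoc, inf_eq_right.2 hS.le']
    rw [h7, ← ha] at h6
    have h8 : Nat.card (A ⊓ Q : Subgroup T) ^ 2 ≤ (n * a) ^ 2 := by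
      have h9 : Nat.card (A ⊓ Q : Subgroup T) ^ 2 * q ≤ (n * a) ^ 2 * q := by
        calc _ ≤ _ := h6
          _ = _ := by ring
      exact Nat.le_of_mul_le_mul_right h9 hq
    exact (Subgroup.card_le_of_le hle).trans ((Nat.pow_le_pow_iff_left two_ne_zero).1 h8)
  -- `n ≤ a f`
  have h6 : n ≤ a * f := by
    rcases Nat.eq_zero_or_pos n with h0 | h0
    · omega
    · have h7 : n * n ≤ n * (a * f) := by
        calc n * n = n ^ 2 := by ring
          _ ≤ _ := h4
          _ ≤ _ := h3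
          _ ≤ (n * a) * f := Nat.mul_le_mul_right _ h5
          _ = _ := by ring
      exact Nat.le_of_mul_le_mul_left h7 h0
  -- `a ≤ |t^T ∩ A|`
  have h7 : a ≤ {u : T | u ∈ A ∧ IsConj t u}.ncard := by
    have h8 : ((A ⊓ Z : Subgroup T) : Set T) \ {1} ∪ {t} ⊆ {u : T | u ∈ A ∧ IsConj t u} := by
      rintro u (⟨⟨hu, hu'⟩, hu1⟩ | hu)
      · exact ⟨hu, hcj u hu' hu1⟩
      · rw [Set.mem_singleton_iff] at hu
        rw [hu]
        exact ⟨ht, IsConj.refl t⟩
    refine le_trans ?_ (Set.ncard_le_ncard h8 (Set.toFinite _))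
    rw [Set.union_singleton, Set.ncard_insert_of_notMem (fun h => htZ h.1.2) (Set.toFinite _),
      Set.ncard_diff_singleton_add_one (one_mem (A ⊓ Z)) (Set.toFinite _)]
    exact le_of_eq rfl
  set I := (centralizer ({t} : Set T)).index with hI
  have h8 : f ^ 5 * a < I := lt_of_le_of_lt (Nat.mul_le_mul_left _ h7) h2
  have h9 : n ^ 5 < a ^ 4 * I := by
    calc n ^ 5 ≤ (a * f) ^ 5 := Nat.pow_le_pow_left h6 5
      _ = a ^ 4 * (f ^ 5 * a) := by ring
      _ < a ^ 4 * I := Nat.mul_lt_mul_of_pos_left h8 (pow_pos ha0 4)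
  have h10 : 16 * a ^ 4 ≤ q ^ 4 := by
    calc 16 * a ^ 4 = (2 * a) ^ 4 := by ring
      _ ≤ q ^ 4 := Nat.pow_le_pow_left ha2 4
  calc 16 * n ^ 5 < 16 * (a ^ 4 * I) := Nat.mul_lt_mul_of_pos_left h9 (by norm_num)
    _ = (16 * a ^ 4) * I := by ring
    _ ≤ q ^ 4 * I := Nat.mul_le_mul_right _ h10

/-- **(S1, iii)** `A` contains `t` and a conjugate `x` of `t` whose centraliser meets `Q ≤ C(t)` trivially. -/
theorem s13 (hA : Fix A) {t x : T} (ht : t ∈ A) (ho : orderOf t = 2) (hx : x ∈ A) (hcj : IsConj t x)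
    (hQ : Q ≤ centralizer ({t} : Set T)) (hxQ : ∀ c ∈ Q, c * x = x * c → c = 1) :
    ∃ f : ℕ, (∀ B : Subgroup T, B ≤ centralizer ({t} : Set T) → A.relIndex B ≤ f) ∧
      f ^ 4 * Nat.card Q < (centralizer ({t} : Set T)).index := by
  obtain ⟨f, h1, h2⟩ := hA t ht ho
  refine ⟨f, h1, ?_⟩
  have h3 := rel_ge (h1 Q hQ)
  have h4 : Nat.card (A ⊓ Q : Subgroup T) ≤ {u : T | u ∈ A ∧ IsConj t u}.ncard := by
    rw [← Nat.card_coe_set_eq]
    refine Nat.card_le_card_of_injective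
      (fun c : (A ⊓ Q : Subgroup T) => (⟨(c : T) * x * (c : T)⁻¹, ?_⟩ : {u : T | u ∈ A ∧ IsConj t u})) ?_
    · exact ⟨mul_mem (mul_mem c.2.1 hx) (inv_mem c.2.1), hcj.trans (isConj_iff.2 ⟨c, rfl⟩)⟩
    · intro c d hcd
      have h5 : (c : T) * x * (c : T)⁻¹ = (d : T) * x * (d : T)⁻¹ := congrArg Subtype.val hcd
      have h6 := hxQ ((d : T)⁻¹ * c) (mul_mem (inv_mem d.2.2) c.2.2) (by
        calc (d : T)⁻¹ * c * x = (d : T)⁻¹ * ((c : T) * x * (c : T)⁻¹) * c := by group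
          _ = (d : T)⁻¹ * ((d : T) * x * (d : T)⁻¹) * c := by rw [h5]
          _ = _ := by group)
      exact Subtype.ext (inv_mul_eq_one.1 h6).symm
  calc f ^ 4 * Nat.card Q ≤ f ^ 4 * (Nat.card (A ⊓ Q : Subgroup T) * f) := Nat.mul_le_mul_left _ h3
    _ = f ^ 5 * Nat.card (A ⊓ Q : Subgroup T) := by ring
    _ ≤ f ^ 5 * _ := Nat.mul_le_mul_left _ h4
    _ < _ := h2

/-- `C_Q(x) = 1` for `x` opposite. -/
theorem opp_centralizer {t x n : T} (hn : n = t * x * t) (hQt : ∀ c ∈ Q, c * t = t * c)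
    (hQn : ∀ c ∈ Q, n * c * n⁻¹ ∈ Q → c = 1) : ∀ c ∈ Q, c * x = x * c → c = 1 := by
  intro c hc hcx
  apply hQn c hc
  have h1 : n * c = c * n := by
    rw [hn]
    calc t * x * t * c = t * x * (t * c) := by group
      _ = t * (x * c) * t := by rw [← hQt c hc]; group
      _ = (t * c) * x * t := by rw [← hcx]; group
      _ = c * (t * x * t) := by rw [← hQt c hc]; group
  rw [h1, mul_inv_cancel_right]
  exact hc

/-- **(S2)** An element of `A ∩ Q`, `A ∩ W` of order at most `w`. -/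
theorem s2 (hA : Fix A) (hS : Sp Z W Q) {q n w k : ℕ} (hZ : Nat.card Z = q) (hk : Nat.card W = k)
    (hQ : Nat.card Q = k * n ^ 2)
    (hw : Nat.card (A ⊓ W : Subgroup T) ≤ w) (hZA : ¬ Z ≤ A) {t : T} (ht : t ∈ A) (htQ : t ∈ Q)
    (ho : orderOf t = 2) : (k * n) ^ 5 < (q * w) ^ 5 * (centralizer ({t} : Set T)).index := by
  obtain ⟨f, h1, h2⟩ := hA t ht ho
  have hk0 : 0 < k := by rw [← hk]; exact Nat.card_pos
  have hq : 0 < q := by rw [← hZ]; exact Nat.card_pos
  have hw0 : 0 < w := lt_of_lt_of_le Nat.card_pos hw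
  set B := Q ⊓ centralizer ({t} : Set T) with hB
  have h3 := rel_ge (h1 B inf_le_right)
  have h4 : k * n ^ 2 ≤ Nat.card B * q := by
    have h5 := card_centralizer_ge hS le_rfl htQ
    rwa [hQ, hZ] at h5
  have h5 : Nat.card (A ⊓ B : Subgroup T) ≤ n * w := by
    have hle : (A ⊓ B : Subgroup T) ≤ A ⊓ Q := le_inf inf_le_left (inf_le_right.trans inf_le_left)
    have h6 := iso hS (R := A ⊓ Q) inf_le_right (fun h => hZA (h.trans inf_le_left))
    rw [hk, hQ] at h6
    have h7 : (A ⊓ Q ⊓ W : Subgroup T) = A ⊓ W := by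
      rw [inf_assoc, inf_eq_right.2 hS.le']
    rw [h7] at h6
    have h8 : Nat.card (A ⊓ Q : Subgroup T) ^ 2 ≤ (n * w) ^ 2 := by
      have h9 : Nat.card (A ⊓ Q : Subgroup T) ^ 2 * k ≤ (n * w) ^ 2 * k := by
        calc _ ≤ _ := h6
          _ ≤ (k * n ^ 2) * w ^ 2 := Nat.mul_le_mul_left _ (Nat.pow_le_pow_left hw 2)
          _ = _ := by ring
      exact Nat.le_of_mul_le_mul_right h9 hk0
    exact (Subgroup.card_le_of_le hle).trans ((Nat.pow_le_pow_iff_left two_ne_zero).1 h8)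
  have h6 : k * n ≤ (q * w) * f := by
    rcases Nat.eq_zero_or_pos n with h0 | h0
    · rw [h0, mul_zero]; exact Nat.zero_le _
    · have h7 : n * (k * n) ≤ n * ((q * w) * f) := by
        calc n * (k * n) = k * n ^ 2 := by ring
          _ ≤ Nat.card B * q := h4
          _ ≤ (Nat.card (A ⊓ B : Subgroup T) * f) * q := Nat.mul_le_mul_right _ h3
          _ ≤ ((n * w) * f) * q := Nat.mul_le_mul_right _ (Nat.mul_le_mul_right _ h5)
          _ = _ := by ring
      exact Nat.le_of_mul_le_mul_left h7 h0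
  have h7 : 1 ≤ {u : T | u ∈ A ∧ IsConj t u}.ncard :=
    (Set.ncard_pos (Set.toFinite _)).2 ⟨t, ht, IsConj.refl t⟩
  have h8 : f ^ 5 < (centralizer ({t} : Set T)).index :=
    lt_of_le_of_lt (Nat.le_mul_of_pos_right _ h7) h2
  calc (k * n) ^ 5 ≤ ((q * w) * f) ^ 5 := Nat.pow_le_pow_left h6 5
    _ = (q * w) ^ 5 * f ^ 5 := by ring
    _ < _ := Nat.mul_lt_mul_of_pos_left h8 (pow_pos (Nat.mul_pos hq hw0) 5)

/-- **(S3)** A subgroup `B` of `C(t)` meeting `A` trivially. -/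
theorem s3 (hA : Fix A) {t : T} (ht : t ∈ A) (ho : orderOf t = 2) {B : Subgroup T}
    (hB : B ≤ centralizer ({t} : Set T)) (hAB : A ⊓ B = ⊥) : Nat.card B ^ 6 < Nat.card T := by
  obtain ⟨f, h1, h2⟩ := hA t ht ho
  have h3 := rel_ge (h1 B hB)
  rw [hAB, Subgroup.card_bot, one_mul] at h3
  have h7 : 1 ≤ {u : T | u ∈ A ∧ IsConj t u}.ncard :=
    (Set.ncard_pos (Set.toFinite _)).2 ⟨t, ht, IsConj.refl t⟩
  have h8 : f ^ 5 < (centralizer ({t} : Set T)).index :=
    lt_of_le_of_lt (Nat.le_mul_of_pos_right _ h7) h2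
  have h9 := (centralizer ({t} : Set T)).card_mul_index
  have h10 : Nat.card B ≤ Nat.card (centralizer ({t} : Set T)) := Subgroup.card_le_of_le hB
  have hB0 : 0 < Nat.card B := Nat.card_pos
  calc Nat.card B ^ 6 = Nat.card B * Nat.card B ^ 5 := by ring
    _ ≤ Nat.card B * f ^ 5 := Nat.mul_le_mul_left _ (Nat.pow_le_pow_left h3 5)
    _ < Nat.card B * (centralizer ({t} : Set T)).index := Nat.mul_lt_mul_of_pos_left h8 hB0
    _ ≤ Nat.card (centralizer ({t} : Set T)) * (centralizer ({t} : Set T)).index := Nat.mul_le_mul_right _ h10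
    _ = Nat.card T := h9

end Cls

end Cfsg.Agent.H255.IFK
end

-- part: H17/IFSp/LR
section
prune_inst 0x3010450477000000081c0010000000f17300019200244800e0040d420509e140a0070900bab0040210c43e54603c006003540040422000000a000800011e01800000000080080000000000000000000000000000000000000000000000000000000000000
set_option linter.all false
open scoped Cfsg.Agent.FastGrp

/-!
# S5719, symplectic groups, `q` odd: two opposite transvections generate a group containing `-1` (helper17)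
-/

set_option autoImplicit false

namespace Cfsg.Agent.H17.IFSp

open Matrix
open scoped MatrixGroups

variable {F : Type*} [Field F]

theorem closure_coe_top (mu : F) :
    Subfield.closure ({⟨mu, Subfield.subset_closure rfl⟩} : Set (Subfield.closure ({mu} : Set F))) = ⊤ := by
  have h := RingHom.map_field_closure (Subfield.closure ({mu} : Set F)).subtype
    ({⟨mu, Subfield.subset_closure rfl⟩} : Set (Subfield.closure ({mu} : Set F)))
  rw [Set.image_singleton, Subfield.subtype_apply] at h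
  rw [eq_top_iff]
  rintro ⟨x, hx⟩ -
  have hx' := hx
  rw [← h, Subfield.mem_map] at hx'
  obtain ⟨y, hy, hyx⟩ := hx'
  have : y = ⟨x, hx⟩ := Subtype.ext hyx
  rwa [← this]

/-- the only involution of `SL₂` -/
theorem sl2_invol (h2 : (2 : F) ≠ 0) {g : SL(2, F)} (hg : g * g = 1) (hg1 : g ≠ 1) : g = -1 := by
  have hd : g.1 0 0 * g.1 1 1 - g.1 0 1 * g.1 1 0 = 1 := by rw [← det_fin_two]; exact g.2
  have hm : g.1 * g.1 = 1 := congrArg Subtype.val hg
  have h00 : g.1 0 0 * g.1 0 0 + g.1 0 1 * g.1 1 0 = 1 := by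
    have := congrFun (congrFun hm 0) 0
    rwa [Matrix.mul_apply, Fin.sum_univ_two, one_apply_eq] at this
  have h01 : g.1 0 0 * g.1 0 1 + g.1 0 1 * g.1 1 1 = 0 := by
    have := congrFun (congrFun hm 0) 1
    rwa [Matrix.mul_apply, Fin.sum_univ_two, one_apply_ne (by decide)] at this
  have h10 : g.1 1 0 * g.1 0 0 + g.1 1 1 * g.1 1 0 = 0 := by
    have := congrFun (congrFun hm 1) 0
    rwa [Matrix.mul_apply, Fin.sum_univ_two, one_apply_ne (by decide)] at this
  have h11 : g.1 1 0 * g.1 0 1 + g.1 1 1 * g.1 1 1 = 1 := by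
    have := congrFun (congrFun hm 1) 1
    rwa [Matrix.mul_apply, Fin.sum_univ_two, one_apply_eq] at this
  have ht : g.1 0 0 + g.1 1 1 ≠ 0 := by
    intro h0
    apply h2
    have h3 : (g.1 0 0 + g.1 1 1) * g.1 0 0 = 2 := by linear_combination h00 + hd
    rw [h0, zero_mul] at h3
    exact h3.symm
  have hb : g.1 0 1 = 0 := by
    have : g.1 0 1 * (g.1 0 0 + g.1 1 1) = 0 := by linear_combination h01
    exact (mul_eq_zero.1 this).resolve_right ht
  have hc : g.1 1 0 = 0 := by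
    have : g.1 1 0 * (g.1 0 0 + g.1 1 1) = 0 := by linear_combination h10
    exact (mul_eq_zero.1 this).resolve_right ht
  have had : g.1 0 0 = g.1 1 1 := by
    have : (g.1 0 0 - g.1 1 1) * (g.1 0 0 + g.1 1 1) = 0 := by
      rw [hb] at h00 h11
      linear_combination h00 - h11
    exact sub_eq_zero.1 ((mul_eq_zero.1 this).resolve_right ht)
  have ha : g.1 0 0 = 1 ∨ g.1 0 0 = -1 := by
    have : (g.1 0 0 - 1) * (g.1 0 0 + 1) = 0 := by
      rw [hb] at h00
      linear_combination h00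
    rcases mul_eq_zero.1 this with h | h
    · left; exact sub_eq_zero.1 h
    · right; exact eq_neg_of_add_eq_zero_left h
  rcases ha with ha | ha
  · exfalso
    apply hg1
    apply Subtype.ext
    ext i j
    fin_cases i <;> fin_cases j
    · exact ha
    · exact hb
    · exact hc
    · show g.1 1 1 = 1
      rw [← had, ha]
  · apply Subtype.ext
    have h3 : ((-1 : SL(2, F))).1 = -1 := rfl
    rw [h3]
    ext i j
    fin_cases i <;> fin_cases j
    · show g.1 0 0 = (-1 : Matrix (Fin 2) (Fin 2) F) 0 0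
      rw [ha, neg_apply, one_apply_eq]
    · show g.1 0 1 = (-1 : Matrix (Fin 2) (Fin 2) F) 0 1
      rw [hb, neg_apply, one_apply_ne (by decide), neg_zero]
    · show g.1 1 0 = (-1 : Matrix (Fin 2) (Fin 2) F) 1 0
      rw [hc, neg_apply, one_apply_ne (by decide), neg_zero]
    · show g.1 1 1 = (-1 : Matrix (Fin 2) (Fin 2) F) 1 1
      rw [← had, ha, neg_apply, one_apply_eq]

theorem lr_one [Finite F] (h2 : (2 : F) ≠ 0) {a : F} (ha : a ≠ 0) (H : Subgroup SL(2, F))
    (hl : ∀ g : SL(2, F), g.1 = !![1, 0; 1, 1] → g ∈ H) (hu : ∀ g : SL(2, F), g.1 = !![1, a; 0, 1] → g ∈ H) :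
    (-1 : SL(2, F)) ∈ H := by
  classical
  set K : Subfield F := Subfield.closure ({a} : Set F) with hK
  let a' : K := ⟨a, Subfield.subset_closure rfl⟩
  let _ : Fintype K := Fintype.ofFinite K
  have hgen : Subfield.closure ({a'} : Set K) = ⊤ := closure_coe_top a
  have h2K : (2 : K) ≠ 0 := by
    intro h0
    apply h2
    have := congrArg K.subtype h0
    rwa [map_ofNat, map_zero] at this
  have ha'0 : a' ≠ 0 := fun h0 => ha (congrArg (fun x : K => (x : F)) h0)
  let Psi : SL(2, K) →* SL(2, F) := Matrix.SpecialLinearGroup.map K.subtype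
  have hPsi : Psi (-1) = -1 := by
    apply Subtype.ext
    ext i j
    (revert i j; simp only [Psi, _root_.Fin.forall_fin_succ, _root_.Matrix.SpecialLinearGroup.map_apply_coe, _root_.Matrix.SpecialLinearGroup.coe_neg, _root_.Matrix.SpecialLinearGroup.coe_one, _root_.RingHom.mapMatrix_apply, _root_.Subfield.coe_subtype, _root_.Matrix.map_apply, _root_.Matrix.neg_apply, _root_.NegMemClass.coe_neg, _root_.neg_inj, _root_.IsEmpty.forall_iff, _root_.and_true, _root_.Matrix.one_apply_eq, _root_.OneMemClass.coe_one, Nat.reduceAdd, Fin.isValue, _root_.Fin.succ_zero_eq_one, _root_.ne_eq, _root_.zero_ne_one, _root_.not_false_eq_true, _root_.Matrix.one_apply_ne, _root_.ZeroMemClass.coe_zero, _root_.and_self, _root_.Fin.succ_ne_zero, _root_.true_and])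
  have hle : Subgroup.closure {g : SL(2, K) | (g : Matrix (Fin 2) (Fin 2) K) = !![1, 0; 1, 1] ∨
      (g : Matrix (Fin 2) (Fin 2) K) = !![1, a'; 0, 1]} ≤ H.comap Psi := by
    rw [Subgroup.closure_le]
    rintro g (hg | hg)
    · apply hl
      rw [Matrix.SpecialLinearGroup.map_apply_coe, RingHom.mapMatrix_apply, hg]
      ext i j
      (revert i j; simp only [_root_.Fin.forall_fin_succ, _root_.Subfield.coe_subtype, _root_.Matrix.map_apply, _root_.Matrix.of_apply, _root_.Matrix.cons_val', _root_.Matrix.cons_val_fin_one, Fin.isValue, _root_.Matrix.cons_val_zero, _root_.Matrix.cons_val_succ, _root_.forall_const, _root_.OneMemClass.coe_one, _root_.ZeroMemClass.coe_zero, _root_.and_self, _root_.implies_true])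
    · apply hu
      rw [Matrix.SpecialLinearGroup.map_apply_coe, RingHom.mapMatrix_apply, hg]
      ext i j
      (revert i j; simp only [a', _root_.Fin.forall_fin_succ, _root_.Subfield.coe_subtype, _root_.Matrix.map_apply, _root_.Matrix.of_apply, _root_.Matrix.cons_val', _root_.Matrix.cons_val_fin_one, Fin.isValue, _root_.Matrix.cons_val_zero, _root_.Matrix.cons_val_succ, _root_.forall_const, _root_.OneMemClass.coe_one, _root_.and_self, _root_.ZeroMemClass.coe_zero, _root_.implies_true])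
  have key : (-1 : SL(2, K)) ∈ Subgroup.closure {g : SL(2, K) | (g : Matrix (Fin 2) (Fin 2) K) = !![1, 0; 1, 1] ∨
      (g : Matrix (Fin 2) (Fin 2) K) = !![1, a'; 0, 1]} := by
    rcases Cfsg.Agent.S0801.result (F := K) h2K a' ha'0 hgen with ⟨htop, -⟩ | ⟨-, -, h120⟩
    · rw [htop]
      exact Subgroup.mem_top _
    · have : Fact (Nat.Prime 2) := ⟨Nat.prime_two⟩
      obtain ⟨g, hg⟩ := exists_prime_orderOf_dvd_card' (G := Subgroup.closure {g : SL(2, K) |
        (g : Matrix (Fin 2) (Fin 2) K) = !![1, 0; 1, 1] ∨ (g : Matrix (Fin 2) (Fin 2) K) = !![1, a'; 0, 1]}) 2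
        (by rw [h120]; norm_num)
      have hg2 : g * g = 1 := by
        have h5 := pow_orderOf_eq_one g
        rw [hg, pow_two] at h5
        exact h5
      have hg1 : g ≠ 1 := by
        rintro rfl
        rw [orderOf_one] at hg
        exact absurd hg (by norm_num)
      have h3 := sl2_invol h2K (g := g.1) (by rw [← Subgroup.coe_mul, hg2]; rfl) (fun h => hg1 (Subtype.ext h))
      rw [← h3]
      exact g.2
  have h4 := hle key
  rw [Subgroup.mem_comap, hPsi] at h4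
  exact h4

/-- conjugation by `diag(b, 1)` -/
def dcj {b : F} (hb : b ≠ 0) : SL(2, F) →* SL(2, F) where
  toFun g := ⟨!![g.1 0 0, b⁻¹ * g.1 0 1; b * g.1 1 0, g.1 1 1], by
    have hd : g.1 0 0 * g.1 1 1 - g.1 0 1 * g.1 1 0 = 1 := by rw [← det_fin_two]; exact g.2
    rw [det_fin_two_of]
    have : b⁻¹ * g.1 0 1 * (b * g.1 1 0) = (b⁻¹ * b) * (g.1 0 1 * g.1 1 0) := by ring
    rw [this, inv_mul_cancel₀ hb, one_mul, hd]⟩
  map_one' := by
    apply Subtype.ext
    ext i j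
    (revert i j; simp only [_root_.Fin.forall_fin_succ, Fin.isValue, _root_.Matrix.SpecialLinearGroup.coe_one, _root_.Matrix.one_apply_eq, _root_.ne_eq, _root_.zero_ne_one, _root_.not_false_eq_true, _root_.Matrix.one_apply_ne, _root_.MulZeroClass.mul_zero, _root_.one_ne_zero, _root_.Matrix.of_apply, _root_.Matrix.cons_val', _root_.Matrix.cons_val_fin_one, _root_.Matrix.cons_val_zero, _root_.Matrix.cons_val_succ, _root_.IsEmpty.forall_iff, _root_.and_true, Nat.reduceAdd, _root_.Fin.succ_zero_eq_one, _root_.and_self, _root_.Fin.succ_ne_zero, _root_.true_and])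
  map_mul' g h := by
    apply Subtype.ext
    show !![(g.1 * h.1) 0 0, b⁻¹ * (g.1 * h.1) 0 1; b * (g.1 * h.1) 1 0, (g.1 * h.1) 1 1] =
      !![g.1 0 0, b⁻¹ * g.1 0 1; b * g.1 1 0, g.1 1 1] * !![h.1 0 0, b⁻¹ * h.1 0 1; b * h.1 1 0, h.1 1 1]
    rw [Matrix.mul_fin_two]
    simp only [Matrix.mul_apply, Fin.sum_univ_two]
    have e1 : b⁻¹ * b = 1 := inv_mul_cancel₀ hb
    ext i j
    fin_cases i <;> fin_cases j
    · show g.1 0 0 * h.1 0 0 + g.1 0 1 * h.1 1 0 = g.1 0 0 * h.1 0 0 + b⁻¹ * g.1 0 1 * (b * h.1 1 0)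
      linear_combination (-(g.1 0 1 * h.1 1 0)) * e1
    · show b⁻¹ * (g.1 0 0 * h.1 0 1 + g.1 0 1 * h.1 1 1) = g.1 0 0 * (b⁻¹ * h.1 0 1) + b⁻¹ * g.1 0 1 * h.1 1 1
      ring
    · show b * (g.1 1 0 * h.1 0 0 + g.1 1 1 * h.1 1 0) = b * g.1 1 0 * h.1 0 0 + g.1 1 1 * (b * h.1 1 0)
      ring
    · show g.1 1 0 * h.1 0 1 + g.1 1 1 * h.1 1 1 = b * g.1 1 0 * (b⁻¹ * h.1 0 1) + g.1 1 1 * h.1 1 1
      linear_combination (-(g.1 1 0 * h.1 0 1)) * e1

/-- **(LR)** two opposite transvections of `SL₂(q)`, `q` odd, generate a group containing `-1` -/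
theorem lr_sl2 [Finite F] (h2 : (2 : F) ≠ 0) {a b : F} (ha : a ≠ 0) (hb : b ≠ 0) (H : Subgroup SL(2, F))
    (hl : ∀ g : SL(2, F), g.1 = !![1, 0; b, 1] → g ∈ H) (hu : ∀ g : SL(2, F), g.1 = !![1, a; 0, 1] → g ∈ H) :
    (-1 : SL(2, F)) ∈ H := by
  have h := lr_one h2 (a := a * b) (mul_ne_zero ha hb) (H.comap (dcj hb)) (by
    intro g hg
    apply hl
    show !![g.1 0 0, b⁻¹ * g.1 0 1; b * g.1 1 0, g.1 1 1] = _
    rw [hg]
    ext i j
    (revert i j; simp [_root_.Fin.forall_fin_succ])) (by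
    intro g hg
    apply hu
    show !![g.1 0 0, b⁻¹ * g.1 0 1; b * g.1 1 0, g.1 1 1] = _
    rw [hg]
    have e1 : b⁻¹ * (a * b) = a := by rw [mul_comm a b, inv_mul_cancel_left₀ hb]
    ext i j
    (revert i j; simp [e1, _root_.Fin.forall_fin_succ]))
  rw [Subgroup.mem_comap] at h
  have h3 : dcj hb (-1 : SL(2, F)) = -1 := by
    apply Subtype.ext
    show !![(-1 : Matrix (Fin 2) (Fin 2) F) 0 0, b⁻¹ * (-1 : Matrix (Fin 2) (Fin 2) F) 0 1;
      b * (-1 : Matrix (Fin 2) (Fin 2) F) 1 0, (-1 : Matrix (Fin 2) (Fin 2) F) 1 1] = (-1 : Matrix (Fin 2) (Fin 2) F)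
    ext i j
    (revert i j; simp only [_root_.Fin.forall_fin_succ, Fin.isValue, _root_.Matrix.neg_apply, _root_.Matrix.one_apply_eq, _root_.ne_eq, _root_.zero_ne_one, _root_.not_false_eq_true, _root_.Matrix.one_apply_ne, _root_.neg_zero, _root_.MulZeroClass.mul_zero, _root_.one_ne_zero, _root_.Matrix.of_apply, _root_.Matrix.cons_val', _root_.Matrix.cons_val_fin_one, _root_.Matrix.cons_val_zero, _root_.Matrix.cons_val_succ, _root_.IsEmpty.forall_iff, _root_.and_true, Nat.reduceAdd, _root_.Fin.succ_zero_eq_one, _root_.and_self, _root_.Fin.succ_ne_zero, _root_.neg_inj, _root_.true_and])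
  rwa [h3] at h

end Cfsg.Agent.H17.IFSp
end

-- part: H897/IF/ENum
section
prune_inst 0x20304400532200000004001200000091010000000007040024050002000cc0008002260040000001400000000004002003100010420000000a000000400101208000100211000004040007803080000000000000000000000000000000000000000000000
set_option linter.all false
open scoped Cfsg.Agent.FastGrp

-- part: H190/IF/Root
section
/-!
# S5719: simply laced root group data (helper190)

* `heis_root` : the Heisenberg datum `X α, X β, ⟨β, α^∨⟩ = 1`;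
* `norm_QQ` : normalisation by root groups orthogonal to `α`;
* `card_QQ`, `odd_QQ`;
* `card_cent_ge` : `|T| |U_φ|² ≤ |C(t)|` for a sign element `t`;
* `index_bound`.
-/

set_option autoImplicit false
set_option linter.unusedSectionVars false

namespace Cfsg.Agent.H190.IF

open CoxeterSystem Cfsg.Agent.ChevalleyStructure.CoxeterGeom Cfsg.Agent.Tits.Roots Cfsg.Agent.Tits.Core
  Cfsg.Agent.Tits.Exchange Cfsg.Agent.Nodes.Reps Cfsg.Agent.Nodes.BNOf Cfsg.Agent.Nodes.StabComb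
  Cfsg.Agent.Nodes.Bruhat Cfsg.Agent.Nodes.OppDec Cfsg.Agent.Nodes.PosPair Cfsg.Agent.Nodes.Coroot
  Cfsg.Agent.Nodes.Unique Cfsg.Agent.KFacts.RgdSL Cfsg.Agent.H557.LrSgn
open scoped commutatorElement

variable {I W Y : Type*} [Fintype I] [DecidableEq I] [Group W] [Group Y] {M : CoxeterMatrix I}
  {cs : CoxeterSystem M W} {A : I → I → ℤ} {h : IsCartan M A} {p : ℕ} {T : Subgroup Y} {n : I → Y}
  {X : (I → ℤ) → Subgroup Y}

section

variable [Finite W] (R : RGD cs h p T n X) (hs : SL cs h)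
  (hab : ∀ α, IsRoot cs h α → ∀ u ∈ X α, ∀ v ∈ X α, u * v = v * u)

include R hs hab

/-- root groups at an acute or right angle commute -/
theorem comm_ge {β γ : I → ℤ} (hβ : IsRoot cs h β) (hγ : IsRoot cs h γ) (hc : 0 ≤ cpr cs h β γ) {u v : Y}
    (hu : u ∈ X β) (hv : v ∈ X γ) : u * v = v * u := by
  by_cases hβγ : β = γ
  · subst hβγ
    exact hab β hβ u hu v hv
  · have hβγ' : β ≠ -γ := by
      rintro rfl
      rw [cpr_neg_left _ hγ, cpr_self cs h hγ] at hc
      omega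
    exact comm_of_not_btwn R hβ hγ hβγ hβγ' (fun z => hs.not_btwn hβ hγ hβγ hc z) hu hv

/-- **the Heisenberg datum of a root** -/
theorem heis_root {α : I → ℤ} (hα : IsRoot cs h α) (S : Finset (I → ℤ))
    (hS : ∀ β ∈ S, IsRoot cs h β ∧ cpr cs h β α = 1) (ho : ∀ β ∈ S, α - β ∈ S) :
    H203.IF.Heis (X α) X S (fun β => α - β) := by
  have hA2 : ∀ β ∈ S, A2 cs h β (α - β) := by
    intro β hβ
    obtain ⟨h1, h2⟩ := hS β hβ
    obtain ⟨h3, h4⟩ := hS _ (ho β hβ)
    have h5 : cpr cs h (α - β) β = -1 := by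
      have e : α - β = α + (-1 : ℤ) • β := by rw [neg_one_smul, sub_eq_add_neg]
      rw [e, cpr_add cs h _ _ h1, cpr_smul cs h _ _ h1, cpr_self cs h h1, hs α β hα h1, h2]
      norm_num
    exact hs.a2 h1 h3 (by rw [hs β (α - β) h1 h3, h5])
  have hsum : ∀ β : I → ℤ, β + (α - β) = α := fun β => by abel
  refine ⟨ho, fun β _ => by abel, hab α hα, ?_, ?_, ?_, ?_⟩
  · intro z hz β hβ a ha
    refine comm_ge R hs hab hα (hS β hβ).1 ?_ hz ha
    rw [hs α β hα (hS β hβ).1, (hS β hβ).2]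
    norm_num
  · intro β hβ γ hγ hne a ha b hb
    obtain ⟨h1, h2⟩ := hS β hβ
    obtain ⟨h3, h4⟩ := hS γ hγ
    refine comm_ge R hs hab h1 h3 ?_ ha hb
    by_contra hcon
    push Not at hcon
    by_cases hβγ : β = -γ
    · rw [hβγ, cpr_neg_left _ hα, h4] at h2
      omega
    by_cases hβγ' : β = γ
    · rw [hβγ', cpr_self cs h h3] at hcon
      omega
    have h5 := (hs.abs_le h1 h3 hβγ' hβγ).1
    have h6 : cpr cs h β γ = -1 := by omega
    have h7 := isRoot_add h1 h3 h6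
    have h8 : cpr cs h (β + γ) α = 2 := by rw [cpr_add cs h _ _ hα, h2, h4]; norm_num
    have h9 := hs.eq_of_cpr h7 hα (by omega)
    exact hne (by rw [← h9]; abel)
  · intro β hβ a ha b hb
    have h1 := A2.comm_mem R (hA2 β hβ) ha hb
    rwa [hsum] at h1
  · intro β hβ a ha ha1 z hz
    exact A2.comm_surj R (hA2 β hβ) ha ha1 (by rwa [hsum])

omit R hs hab in
theorem QQ_eq {α : I → ℤ} (S : Finset (I → ℤ)) :
    H203.IF.QQ (X α) X S = RGD.Sup X (insert α (S : Set (I → ℤ))) := by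
  apply le_antisymm
  · refine H203.IF.Heis.QQ_le (RGD.le_Sup (Set.mem_insert _ _)) fun β hβ => RGD.le_Sup (Set.mem_insert_of_mem _ hβ)
  · refine RGD.Sup_le ?_
    rintro z (rfl | hz)
    · exact H203.IF.Heis.Z_le
    · exact H203.IF.Heis.X_le (Finset.mem_coe.1 hz)

/-- normalisation by orthogonal root groups -/
theorem norm_QQ {α : I → ℤ} (hα : IsRoot cs h α) (S : Finset (I → ℤ))
    (hS : ∀ β ∈ S, IsRoot cs h β ∧ cpr cs h β α = 1) {E : Set (I → ℤ)}
    (hE : ∀ γ ∈ E, IsRoot cs h γ ∧ cpr cs h γ α = 0)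
    (hES : ∀ γ ∈ E, ∀ β ∈ S, IsRoot cs h (γ + β) → γ + β ∈ S) {l : Y} (hl : l ∈ RGD.Sup X E) {u : Y}
    (hu : u ∈ H203.IF.QQ (X α) X S) : l * u * l⁻¹ ∈ H203.IF.QQ (X α) X S := by
  rw [QQ_eq] at hu ⊢
  have h1 : RGD.Sup X E ≤ Subgroup.normalizer (RGD.Sup X (insert α (S : Set (I → ℤ))) : Set Y) := by
    refine RGD.Sup_le fun γ hγ => R.le_normalizer (hE γ hγ).1 ?_
    obtain ⟨hγr, hγα⟩ := hE γ hγ
    rintro y (rfl | hy)
    · refine ⟨hα, Or.inr ⟨?_, fun z hz => ?_⟩⟩
      · rintro rfl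
        rw [cpr_neg_left _ hα, cpr_self cs h hα] at hγα
        omega
      · exact absurd hz (hs.not_btwn hγr hα (by
          rintro rfl
          rw [cpr_self cs h hα] at hγα
          omega) (by rw [hγα]) z)
    · obtain ⟨hyr, hyα⟩ := hS y (Finset.mem_coe.1 hy)
      have hne : γ ≠ y := by
        rintro rfl
        omega
      have hne' : γ ≠ -y := by
        rintro rfl
        rw [cpr_neg_left _ hα, hyα] at hγα
        omega
      refine ⟨hyr, Or.inr ⟨hne', fun z hz => ?_⟩⟩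
      obtain ⟨h2, h3⟩ := hs.btwn hγr hyr hne hne' hz
      rw [h3]
      exact Set.mem_insert_of_mem _ (Finset.mem_coe.2 (hES γ hγ y (Finset.mem_coe.1 hy) (isRoot_add hγr hyr h2)))
  exact (Subgroup.mem_normalizer_iff.1 (h1 hl) u).1 hu

end

section

variable {ι : Type*} {Z : Subgroup Y} {P : ι → Subgroup Y} {S : Finset ι} {o : ι → ι}

/-- the order of a Heisenberg group -/
theorem card_QQ [Finite Y] (H : H203.IF.Heis Z P S o) (hZ : Z ≠ ⊥) :
    Nat.card (H203.IF.QQ Z P S) = Nat.card Z * ∏ i ∈ S, Nat.card (P i) := by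
  classical
  refine le_antisymm ?_ (H.card_ge hZ)
  have h2 : ∏ i : S, Nat.card (P i) = ∏ i ∈ S, Nat.card (P i) := by
    rw [← Finset.prod_coe_sort S (fun i => Nat.card (P i))]
  rw [← h2, ← Nat.card_pi, ← Nat.card_prod]
  let ex : ((i : S) → P i) → ι → Y := fun a i => if h : i ∈ S then (a ⟨i, h⟩ : Y) else 1
  refine Nat.card_le_card_of_surjective (fun p : Z × ((i : S) → P i) =>
    (⟨p.1 * H203.IF.Heis.pr (ex p.2) S.toList, mul_mem (H203.IF.Heis.Z_le p.1.2)
      (H203.IF.Heis.pr_mem (fun i hi => Finset.mem_toList.1 hi) (fun i hi => by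
        simp only [ex, dif_pos hi]
        exact (p.2 ⟨i, hi⟩).2))⟩ : H203.IF.QQ Z P S)) ?_
  rintro ⟨g, hg⟩
  obtain ⟨a, ha, z, hz, rfl⟩ := H.nf hg
  refine ⟨(⟨z, hz⟩, fun i => ⟨a i, ha i i.2⟩), ?_⟩
  apply Subtype.ext
  show z * _ = z * _
  congr 1
  unfold H203.IF.Heis.pr
  congr 1
  apply List.map_congr_left
  intro i hi
  simp only [ex, dif_pos (Finset.mem_toList.1 hi)]

theorem card_QQ' [Finite Y] (H : H203.IF.Heis Z P S o) (hZ : Z ≠ ⊥) {q : ℕ} (hq : Nat.card Z = q)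
    (hqP : ∀ i ∈ S, Nat.card (P i) = q) : Nat.card (H203.IF.QQ Z P S) = q ^ (S.card + 1) := by
  rw [card_QQ H hZ, hq, Finset.prod_congr rfl hqP, Finset.prod_const, pow_succ, mul_comm]

end

section

variable [Finite W] [Finite Y] (R : RGD cs h p T n X) (hs : SL cs h)

include R hs

/-- the order of `⟨X x : x > 0, φ x = 0⟩` -/
theorem card_Uphi {q : ℕ} (hq : ∀ α, IsRoot cs h α → Nat.card (X α) = q) (φ : (I → ℤ) →+ ZMod 2)
    (S : Finset (I → ℤ)) (hS : ∀ x, x ∈ S ↔ IsRoot cs h x ∧ 0 ≤ x ∧ φ x = 0) :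
    Nat.card (RGD.Sup X (S : Set (I → ℤ))) = q ^ S.card := by
  have hpos : (S : Set (I → ℤ)) ⊆ RGD.Pos cs h := fun x hx => by
    obtain ⟨h1, h2, -⟩ := (hS x).1 (Finset.mem_coe.1 hx)
    exact ⟨h1, h2⟩
  rw [Cfsg.Agent.Nodes.CardSup.card_sup R hpos ?_]
  · rw [Finset.prod_congr rfl (fun x hx => hq x ((hS x).1 hx).1), Finset.prod_const]
  · intro x hx y hy z hz
    obtain ⟨hxr, hx0, hxφ⟩ := (hS x).1 (Finset.mem_coe.1 hx)
    obtain ⟨hyr, hy0, hyφ⟩ := (hS y).1 (Finset.mem_coe.1 hy)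
    by_cases hxy : x = y
    · subst hxy
      rw [btwn_self hxr hz]
      exact hx
    by_cases hxy' : x = -y
    · exfalso
      have h1 : x = 0 := by
        apply le_antisymm _ hx0
        rw [hxy']
        exact neg_nonpos.2 hy0
      exact hxr.ne_zero h1
    obtain ⟨h1, h2⟩ := hs.btwn hxr hyr hxy hxy' hz
    refine Finset.mem_coe.2 ((hS z).2 ⟨hz.1, ?_, ?_⟩)
    · rw [h2]
      exact add_nonneg hx0 hy0
    · rw [h2, map_add, hxφ, hyφ, add_zero]

/-- the order of `⟨X x : x < 0, φ x = 0⟩` -/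
theorem card_Uneg {q : ℕ} (hq : ∀ α, IsRoot cs h α → Nat.card (X α) = q) (φ : (I → ℤ) →+ ZMod 2)
    (S : Finset (I → ℤ)) (hS : ∀ x, x ∈ S ↔ IsRoot cs h x ∧ 0 ≤ x ∧ φ x = 0) :
    Nat.card (RGD.Sup X {x | -x ∈ S}) = q ^ S.card := by
  classical
  obtain ⟨k, hk⟩ := exists_rp cs R.nsys (w0 cs)
  let g : (I → ℤ) → (I → ℤ) := fun x => -rep cs h (w0 cs) x
  have hg : Function.Injective g := by
    intro a b hab
    have h1 : rep cs h (w0 cs) a = rep cs h (w0 cs) b := neg_injective hab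
    have h2 := congrArg (rep cs h (w0 cs)⁻¹) h1
    rwa [rep_inv_apply, rep_inv_apply] at h2
  let S' : Finset (I → ℤ) := S.image g
  have hS' : ∀ x, x ∈ S' ↔ IsRoot cs h x ∧ 0 ≤ x ∧ (φ.comp (rep cs h (w0 cs)⁻¹).toAddMonoidHom) x = 0 := by
    intro x
    constructor
    · intro hx
      obtain ⟨y, hy, rfl⟩ := Finset.mem_image.1 hx
      obtain ⟨h1, h2, h3⟩ := (hS y).1 hy
      refine ⟨(h1.act _).neg, neg_nonneg.2 (rep_w0_nonpos h1 h2), ?_⟩
      show φ (rep cs h (w0 cs)⁻¹ (-rep cs h (w0 cs) y)) = 0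
      rw [map_neg, rep_inv_apply, map_neg, h3, neg_zero]
    · rintro ⟨h1, h2, h3⟩
      refine Finset.mem_image.2 ⟨-rep cs h (w0 cs)⁻¹ x, ?_, ?_⟩
      · rw [hS]
        have h4 : IsRoot cs h (rep cs h (w0 cs)⁻¹ x) := h1.act _
        refine ⟨h4.neg, ?_, ?_⟩
        · rcases h4.pos_or_neg with h5 | h5
          · exfalso
            have h6 := rep_w0_nonpos h4 h5
            rw [rep_apply_inv] at h6
            exact h1.not_pos_neg h2 h6
          · exact neg_nonneg.2 h5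
        · rw [map_neg]
          have h3' : φ (rep cs h (w0 cs)⁻¹ x) = 0 := h3
          rw [h3', neg_zero]
      · show -rep cs h (w0 cs) (-rep cs h (w0 cs)⁻¹ x) = x
        rw [map_neg, neg_neg, rep_apply_inv]
  have hc : S'.card = S.card := Finset.card_image_of_injective _ hg
  have e : cj k (RGD.Sup X {x | -x ∈ S}) = RGD.Sup X (S' : Set (I → ℤ)) := ?_
  · rw [← hc, ← card_Uphi R hs hq _ S' hS', ← e]
    exact (Cfsg.Agent.Nodes.CardSup.card_cj _).symm
  apply le_antisymm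
  · rw [RGD.cj_Sup]
    refine iSup_le ?_
    rintro ⟨y, hy⟩
    have hyS : -y ∈ S := hy
    have hyr : IsRoot cs h y := by
      have := ((hS _).1 hyS).1.neg
      rwa [neg_neg] at this
    show cj k (X y) ≤ _
    rw [R.conj_rp hk hyr]
    refine RGD.le_Sup (Finset.mem_coe.2 (Finset.mem_image.2 ⟨-y, hyS, ?_⟩))
    show -rep cs h (w0 cs) (-y) = _
    rw [map_neg, neg_neg]
  · refine RGD.Sup_le fun z hz => ?_
    obtain ⟨y, hy, rfl⟩ := Finset.mem_image.1 (Finset.mem_coe.1 hz)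
    have hyr := ((hS y).1 hy).1
    have h1 : X (g y) = cj k (X (-y)) := by
      rw [R.conj_rp hk hyr.neg, map_neg]
    rw [h1]
    refine cj_mono k (RGD.le_Sup ?_)
    show - -y ∈ S
    rwa [neg_neg]

/-- **the big cell of the centraliser of a sign element** -/
theorem card_cent_ge (hTc : ∀ a ∈ T, ∀ b ∈ T, a * b = b * a) {q : ℕ}
    (hq : ∀ α, IsRoot cs h α → Nat.card (X α) = q) {φ : (I → ℤ) →+ ZMod 2} {t : Y} (ht : SgnEl cs h T X φ t)
    (S : Finset (I → ℤ)) (hS : ∀ x, x ∈ S ↔ IsRoot cs h x ∧ 0 ≤ x ∧ φ x = 0) :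
    Nat.card T * q ^ (2 * S.card) ≤ Nat.card (Subgroup.centralizer ({t} : Set Y)) := by
  classical
  have e1 := card_Uphi R hs hq φ S hS
  have e2 := card_Uneg R hs hq φ S hS
  have hU1 : RGD.Sup X (S : Set (I → ℤ)) ≤ Subgroup.centralizer {t} := by
    refine RGD.Sup_le fun x hx u hu => ?_
    obtain ⟨h1, -, h2⟩ := (hS x).1 (Finset.mem_coe.1 hx)
    exact Subgroup.mem_centralizer_singleton_iff.2 (ht.fix x h1 h2 u hu).symm
  have hU2 : RGD.Sup X {x | -x ∈ S} ≤ Subgroup.centralizer {t} := by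
    refine RGD.Sup_le fun x hx u hu => ?_
    obtain ⟨h1, -, h2⟩ := (hS (-x)).1 hx
    have h3 : IsRoot cs h x := by
      have := h1.neg
      rwa [neg_neg] at this
    have h4 : φ x = 0 := by rwa [map_neg, neg_eq_zero] at h2
    exact Subgroup.mem_centralizer_singleton_iff.2 (ht.fix x h3 h4 u hu).symm
  have hT : T ≤ Subgroup.centralizer {t} := fun s hs =>
    Subgroup.mem_centralizer_singleton_iff.2 (hTc s hs t ht.mem)
  have hU1' : RGD.Sup X (S : Set (I → ℤ)) ≤ RGD.Sup X (RGD.Pos cs h) := RGD.Sup_mono fun x hx => by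
    obtain ⟨h1, h2, -⟩ := (hS x).1 (Finset.mem_coe.1 hx)
    exact ⟨h1, h2⟩
  have hU2' : RGD.Sup X {x | -x ∈ S} ≤ UN cs h X := RGD.Sup_le fun x hx => by
    obtain ⟨h1, h2, -⟩ := (hS (-x)).1 hx
    have h3 : IsRoot cs h x := by
      have := h1.neg
      rwa [neg_neg] at this
    exact X_le_UN h3 (neg_nonneg.1 h2)
  have hinj : Function.Injective (fun x : ↥(RGD.Sup X {x | -x ∈ S}) × T × ↥(RGD.Sup X (S : Set (I → ℤ))) =>
      (⟨(x.1 : Y) * (x.2.1 * x.2.2), mul_mem (hU2 x.1.2) (mul_mem (hT x.2.1.2) (hU1 x.2.2.2))⟩ :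
        Subgroup.centralizer ({t} : Set Y))) := by
    rintro ⟨⟨v, hv⟩, ⟨s, hs⟩, ⟨u, hu⟩⟩ ⟨⟨v', hv'⟩, ⟨s', hs'⟩, ⟨u', hu'⟩⟩ e
    have e0 : v * (s * u) = v' * (s' * u') := congrArg Subtype.val e
    have e3 : v'⁻¹ * v = s' * u' * (s * u)⁻¹ := by
      rw [eq_mul_inv_iff_mul_eq, mul_assoc, e0]; group
    have h1 : v'⁻¹ * v ∈ RGD.B cs h T X := by
      rw [e3]
      exact mul_mem (mul_mem (RGD.T_le_B hs') (RGD.U_le_B (hU1' hu')))
        (inv_mem (mul_mem (RGD.T_le_B hs) (RGD.U_le_B (hU1' hu))))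
    have h2 := eq_one_of_mem_UN_of_mem_B R (mul_mem (inv_mem (hU2' hv')) (hU2' hv)) h1
    have h3 : v = v' := (inv_mul_eq_one.1 h2).symm
    subst h3
    have e4 : s * u = s' * u' := mul_left_cancel e0
    have e5 : s'⁻¹ * s = u' * u⁻¹ := by
      rw [eq_mul_inv_iff_mul_eq, mul_assoc, e4]; group
    have h4 : u' * u⁻¹ ∈ RGD.Sup X (RGD.Pos cs h) ⊓ T :=
      Subgroup.mem_inf.2 ⟨mul_mem (hU1' hu') (inv_mem (hU1' hu)), by rw [← e5]; exact mul_mem (inv_mem hs') hs⟩
    rw [U_inf_T R, Subgroup.mem_bot] at h4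
    have h5 : u' = u := mul_inv_eq_one.1 h4
    subst h5
    have h6 : s = s' := mul_right_cancel e4
    subst h6
    rfl
  have h1 := Nat.card_le_card_of_injective _ hinj
  rw [Nat.card_prod, Nat.card_prod, e1, e2] at h1
  calc Nat.card T * q ^ (2 * S.card) = q ^ S.card * (Nat.card T * q ^ S.card) := by ring
    _ ≤ _ := h1

/-- the length of the class of a sign element -/
theorem index_bound (hTc : ∀ a ∈ T, ∀ b ∈ T, a * b = b * a) {q : ℕ}
    (hq : ∀ α, IsRoot cs h α → Nat.card (X α) = q) {φ : (I → ℤ) →+ ZMod 2} {t : Y} (ht : SgnEl cs h T X φ t)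
    (S : Finset (I → ℤ)) (hS : ∀ x, x ∈ S ↔ IsRoot cs h x ∧ 0 ≤ x ∧ φ x = 0) {c N : ℕ} (hq0 : 0 < q)
    (hcard : Nat.card Y * c ≤ Nat.card T * q ^ (2 * S.card + N)) :
    (Subgroup.centralizer ({t} : Set Y)).index * c ≤ q ^ N := by
  have h1 := card_cent_ge R hs hTc hq ht S hS
  have h2 := (Subgroup.centralizer ({t} : Set Y)).index_mul_card
  have hT : 0 < Nat.card T := Nat.card_pos
  have hpos : 0 < Nat.card T * q ^ (2 * S.card) := Nat.mul_pos hT (pow_pos hq0 _)
  refine Nat.le_of_mul_le_mul_left (c := Nat.card T * q ^ (2 * S.card)) ?_ hpos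
  calc Nat.card T * q ^ (2 * S.card) * ((Subgroup.centralizer ({t} : Set Y)).index * c)
      = (Subgroup.centralizer ({t} : Set Y)).index * (Nat.card T * q ^ (2 * S.card)) * c := by ring
    _ ≤ (Subgroup.centralizer ({t} : Set Y)).index * Nat.card (Subgroup.centralizer ({t} : Set Y)) * c :=
      Nat.mul_le_mul_right _ (Nat.mul_le_mul_left _ h1)
    _ = Nat.card Y * c := by rw [h2]
    _ ≤ _ := hcard
    _ = _ := by rw [pow_add]; ring

end

end Cfsg.Agent.H190.IF
end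

-- part: H190/IF/Core
section
/-!
# S5719: the steps for simply laced root group data (helper190)

* `Inv2 β z` : `z` is the involution of `⟨X β, X (-β)⟩`, contained in `⟨u, v⟩` for all `1 ≠ u ∈ X β`, `1 ≠ v ∈ X (-β)`;
* `ustep` : the involution with centraliser of type `D₅`: its root groups are contained in `A`;
* `phi_step`, `phi_start` : the index of subgroups without fundamental involutions.
-/

set_option autoImplicit false
set_option linter.unusedSectionVars false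

namespace Cfsg.Agent.H190.IF

open CoxeterSystem Cfsg.Agent.ChevalleyStructure.CoxeterGeom Cfsg.Agent.Tits.Roots Cfsg.Agent.Tits.Core
  Cfsg.Agent.Tits.Exchange Cfsg.Agent.Nodes.Reps Cfsg.Agent.Nodes.BNOf Cfsg.Agent.Nodes.StabComb
  Cfsg.Agent.Nodes.Bruhat Cfsg.Agent.Nodes.OppDec Cfsg.Agent.Nodes.PosPair Cfsg.Agent.Nodes.Coroot
  Cfsg.Agent.Nodes.Unique Cfsg.Agent.KFacts.RgdSL Cfsg.Agent.H557.LrSgn
open scoped commutatorElement

/-! ### numbers -/

theorem pow_le_aux {n : ℕ} (hn : 6 ≤ n) : (n + 1) ^ 11 ≤ n ^ 12 := by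
  have h1 : 6 * (n + 1) ≤ 7 * n := by omega
  have h2 := Nat.pow_le_pow_left h1 11
  rw [mul_pow, mul_pow] at h2
  have h3 : (7 : ℕ) ^ 11 ≤ 6 ^ 12 := by norm_num
  have h4 : 6 ^ 11 * (n + 1) ^ 11 ≤ 6 ^ 11 * n ^ 12 := by
    calc 6 ^ 11 * (n + 1) ^ 11 ≤ 7 ^ 11 * n ^ 11 := h2
      _ ≤ 6 ^ 12 * n ^ 11 := Nat.mul_le_mul_right _ h3
      _ = 6 ^ 11 * (6 * n ^ 11) := by ring
      _ ≤ 6 ^ 11 * (n * n ^ 11) := Nat.mul_le_mul_left _ (Nat.mul_le_mul_right _ hn)
      _ = _ := by ring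
  exact Nat.le_of_mul_le_mul_left h4 (by norm_num)

theorem num_u {q r : ℕ} (hq : 3 ≤ q) (hodd : Odd q) (hr : r ∣ q) (h : r ^ 5 * (q - 1) ^ 6 < q ^ 8) : r * r < q := by
  have hr0 : 0 < r := Nat.pos_of_dvd_of_pos hr (by omega)
  rcases Nat.lt_or_ge q 7 with h7 | h7
  · interval_cases q
    · have h1 := Nat.le_of_dvd (by norm_num) hr
      interval_cases r
      · norm_num
      · exact absurd hr (by norm_num)
      · norm_num at h
    · exact absurd hodd (by decide)
    · have h1 := Nat.le_of_dvd (by norm_num) hr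
      interval_cases r
      · norm_num
      · exact absurd hr (by norm_num)
      · exact absurd hr (by norm_num)
      · exact absurd hr (by norm_num)
      · norm_num at h
    · exact absurd hodd (by decide)
  · by_contra hcon
    push Not at hcon
    obtain ⟨n, rfl⟩ : ∃ n, q = n + 1 := ⟨q - 1, by omega⟩
    have h1 : n + 1 - 1 = n := by omega
    rw [h1] at h
    have h2 := pow_le_aux (n := n) (by omega)
    have h3 := Nat.pow_le_pow_left hcon 5
    have h4 : (r ^ 5 * n ^ 6) ^ 2 < ((n + 1) ^ 8) ^ 2 := Nat.pow_lt_pow_left h (by norm_num)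
    have h5 : ((n + 1) ^ 8) ^ 2 ≤ (r ^ 5 * n ^ 6) ^ 2 := by
      calc ((n + 1) ^ 8) ^ 2 = (n + 1) ^ 5 * (n + 1) ^ 11 := by ring
        _ ≤ (r * r) ^ 5 * n ^ 12 := Nat.mul_le_mul h3 h2
        _ = _ := by ring
    omega

theorem num_z {q f N : ℕ} (hq : 3 ≤ q) (hf : q ^ 9 ≤ f) (h1 : f ^ 5 < N) (h2 : N * (q - 1) ^ 6 ≤ q ^ 46) : False := by
  have h3 : q ≤ (q - 1) ^ 6 := by
    obtain ⟨n, rfl⟩ : ∃ n, q = n + 2 := ⟨q - 2, by omega⟩
    have h4 : n + 2 - 1 = n + 1 := by omega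
    rw [h4]
    calc n + 2 ≤ 2 * (n + 1) := by omega
      _ ≤ (n + 1) * (n + 1) := Nat.mul_le_mul_right _ (by omega)
      _ = (n + 1) ^ 2 := by ring
      _ ≤ (n + 1) ^ 6 := Nat.pow_le_pow_right (by omega) (by norm_num)
  have h4 : (q ^ 9) ^ 5 ≤ f ^ 5 := Nat.pow_le_pow_left hf 5
  have h5 : 0 < (q - 1) ^ 6 := pow_pos (by omega) 6
  have h6 : q ^ 46 < q ^ 46 := by
    calc q ^ 46 = (q ^ 9) ^ 5 * q := by ring
      _ ≤ f ^ 5 * (q - 1) ^ 6 := Nat.mul_le_mul h4 h3
      _ < N * (q - 1) ^ 6 := Nat.mul_lt_mul_of_pos_right h1 h5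
      _ ≤ q ^ 46 := h2
  exact lt_irrefl _ h6

section fix

variable {Y : Type*} [Group Y] [Finite Y] {A : Subgroup Y}

theorem Fix_bound (hA : H255.IFK.Fix A) {t : Y} (ht : t ∈ A) (h2 : orderOf t = 2) :
    ∃ f : ℕ, (∀ B : Subgroup Y, B ≤ Subgroup.centralizer ({t} : Set Y) → A.relIndex B ≤ f) ∧
      f ^ 5 < (Subgroup.centralizer ({t} : Set Y)).index := by
  obtain ⟨f, h3, h4⟩ := hA t ht h2
  refine ⟨f, h3, lt_of_le_of_lt ?_ h4⟩
  have h5 : 0 < {u : Y | u ∈ A ∧ IsConj t u}.ncard := (Set.ncard_pos (Set.toFinite _)).2 ⟨t, ht, IsConj.refl t⟩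
  exact Nat.le_mul_of_pos_right _ h5

end fix

variable {I W Y : Type*} [Fintype I] [DecidableEq I] [Group W] [Group Y] {M : CoxeterMatrix I}
  {cs : CoxeterSystem M W} {A : I → I → ℤ} {h : IsCartan M A} {p : ℕ} {T : Subgroup Y} {n : I → Y}
  {X : (I → ℤ) → Subgroup Y}

/-- the parity of `⟨·, β^∨⟩` -/
noncomputable def psi [Finite W] {β : I → ℤ} (hβ : IsRoot cs h β) : (I → ℤ) →+ ZMod 2 :=
  (Int.castAddHom (ZMod 2)).comp (ell cs h hβ)

theorem psi_apply [Finite W] {β : I → ℤ} (hβ : IsRoot cs h β) (x : I → ℤ) : psi hβ x = ((cpr cs h x β : ℤ) : ZMod 2) :=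
  rfl

/-- `z` is the involution of `⟨X β, X (-β)⟩` -/
structure Inv2 [Finite W] (cs : CoxeterSystem M W) (h : IsCartan M A) (T : Subgroup Y) (X : (I → ℤ) → Subgroup Y)
    (β : I → ℤ) (z : Y) : Prop where
  root : IsRoot cs h β
  sgn : SgnEl cs h T X (psi root) z
  opp : ∀ u ∈ X β, ∀ v ∈ X (-β), u ≠ 1 → v ≠ 1 → z ∈ Subgroup.closure {u, v}

theorem Inv2.conj [Finite W] (R : RGD cs h p T n X) {β : I → ℤ} {z : Y} (H : Inv2 cs h T X β z) {w : W} {k : Y}
    (hk : Rp cs R.nsys w k) : Inv2 cs h T X (rep cs h w β) (k * z * k⁻¹) := by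
  refine ⟨H.root.act w, ?_, ?_⟩
  · have h1 := H.sgn.conj R hk
    have h2 : (psi H.root).comp (rep cs h w⁻¹).toAddMonoidHom = psi (H.root.act w) := by
      refine AddMonoidHom.ext fun x => ?_
      show ((cpr cs h (rep cs h w⁻¹ x) β : ℤ) : ZMod 2) = ((cpr cs h x (rep cs h w β) : ℤ) : ZMod 2)
      have h3 := cpr_rep cs h w (rep cs h w⁻¹ x) H.root
      rw [rep_apply_inv] at h3
      rw [h3]
    rw [h2] at h1
    exact h1
  · intro u hu v hv hu1 hv1
    have h1 := R.conj_mem' hk (H.root.act w) hu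
    rw [rep_inv_apply] at h1
    have h2 := R.conj_mem' hk (H.root.act w).neg hv
    rw [map_neg, rep_inv_apply] at h2
    have h3 := H.opp _ h1 _ h2 (fun e => hu1 (by
      have : u = k * (k⁻¹ * u * k) * k⁻¹ := by group
      rw [this, e]; group)) (fun e => hv1 (by
      have : v = k * (k⁻¹ * v * k) * k⁻¹ := by group
      rw [this, e]; group))
    have h4 : k * z * k⁻¹ ∈ (Subgroup.closure {k⁻¹ * u * k, k⁻¹ * v * k}).map (MulAut.conj k).toMonoidHom :=
      ⟨z, h3, rfl⟩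
    rw [MonoidHom.map_closure] at h4
    refine (Subgroup.closure_mono ?_) h4
    rintro _ ⟨x, rfl | rfl, rfl⟩
    · left
      show k * (k⁻¹ * u * k) * k⁻¹ = u
      group
    · right
      show k * (k⁻¹ * v * k) * k⁻¹ = v
      group

theorem exists_inv2 [Finite W] (R : RGD cs h p T n X) (hsim : ∀ i, ∃ z, Inv2 cs h T X (sr i) z) {β : I → ℤ}
    (hβ : IsRoot cs h β) : ∃ z, Inv2 cs h T X β z := by
  obtain ⟨w, i, rfl⟩ := hβ
  obtain ⟨k, hk⟩ := exists_rp cs R.nsys w
  obtain ⟨z, hz⟩ := hsim i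
  exact ⟨_, hz.conj R hk⟩

section

variable [Finite W] [Finite Y] (R : RGD cs h p T n X) (hs : SL cs h)
  (hab : ∀ α, IsRoot cs h α → ∀ u ∈ X α, ∀ v ∈ X α, u * v = v * u) {q : ℕ}
  (hcard : ∀ α, IsRoot cs h α → Nat.card (X α) = q) (hq : 3 ≤ q) (hodd : Odd q)

include R hs hab hcard hq hodd

/-- **the step for the involution `u`** -/
theorem ustep {B : Subgroup Y} (hB : H255.IFK.Fix B) {φ : (I → ℤ) →+ ZMod 2} {t : Y} (ht : SgnEl cs h T X φ t) (htB : t ∈ B)
    (ht2 : orderOf t = 2) (hidx : (Subgroup.centralizer ({t} : Set Y)).index * (q - 1) ^ 6 ≤ q ^ 38)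
    (hS : ∀ α, IsRoot cs h α → φ α = 0 → ∃ S : Finset (I → ℤ),
      (∀ β, β ∈ S ↔ IsRoot cs h β ∧ cpr cs h β α = 1 ∧ φ β = 0) ∧ S.card = 12)
    {γ : I → ℤ} (hγ : ∃ α β, IsRoot cs h α ∧ IsRoot cs h β ∧ φ α = 0 ∧ φ β = 0 ∧ cpr cs h α β = -1 ∧ α + β = γ) :
    X γ ≤ B := by
  have key : ∀ α, IsRoot cs h α → φ α = 0 → B.relIndex (X α) * B.relIndex (X α) < q := by
    intro α hα hφα
    obtain ⟨S, hSm, hSc⟩ := hS α hα hφα
    have H : H203.IF.Heis (X α) X S (fun β => α - β) := heis_root R hs hab hα S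
      (fun β hβ => ⟨((hSm β).1 hβ).1, ((hSm β).1 hβ).2.1⟩) (fun β hβ => by
        obtain ⟨h1, h2, h3⟩ := (hSm β).1 hβ
        rw [hSm]
        refine ⟨isRoot_sub hα h1 (by rw [hs α β hα h1, h2]), ?_, by rw [map_sub, hφα, h3, sub_zero]⟩
        have e : α - β = α + (-1 : ℤ) • β := by rw [neg_one_smul, sub_eq_add_neg]
        rw [e, cpr_add cs h _ _ hα, cpr_smul cs h _ _ hα, cpr_self cs h hα, h2]
        norm_num)
    have hQc : H203.IF.QQ (X α) X S ≤ Subgroup.centralizer {t} :=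
      H203.IF.Heis.QQ_le (fun u hu => Subgroup.mem_centralizer_singleton_iff.2 (ht.fix α hα hφα u hu).symm)
        fun β hβ u hu => Subgroup.mem_centralizer_singleton_iff.2
          (ht.fix β ((hSm β).1 hβ).1 ((hSm β).1 hβ).2.2 u hu).symm
    have hQ : Nat.card (H203.IF.QQ (X α) X S) = q ^ 13 := by
      rw [card_QQ' H (X_ne_bot R hα) (hcard α hα) (fun β hβ => hcard β ((hSm β).1 hβ).1), hSc]
    obtain ⟨f, hf1, hf2⟩ := Fix_bound hB htB ht2
    have hrel : B.relIndex (X α) * Nat.card (B ⊓ X α : Subgroup Y) = q := by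
      rw [← hcard α hα]
      exact (card_eq_relIndex_mul B (X α)).symm
    by_cases hle : X α ≤ B
    · rw [Subgroup.relIndex_eq_one.2 hle]
      omega
    · have h1 := H.rel B hle
      have h2 := hf1 _ hQc
      rw [hQ, hcard α hα] at h1
      set r := B.relIndex (X α) with hr
      set x := Nat.card (B ⊓ X α : Subgroup Y) with hx
      set m := B.relIndex (H203.IF.QQ (X α) X S) with hm
      have hx0 : 0 < x := Nat.card_pos
      -- `q ^ 6 * r ≤ m`
      have h3 : (q ^ 6 * r) ^ 2 ≤ m ^ 2 := by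
        have h4 : x ^ 2 * (q ^ 6 * r) ^ 2 ≤ x ^ 2 * m ^ 2 := by
          calc x ^ 2 * (q ^ 6 * r) ^ 2 = q ^ 12 * (r * x) ^ 2 := by ring
            _ = q ^ 12 * q ^ 2 := by rw [hrel]
            _ = q ^ 13 * q := by ring
            _ ≤ m ^ 2 * x ^ 2 := h1
            _ = _ := by ring
        exact Nat.le_of_mul_le_mul_left h4 (pow_pos hx0 2)
      have h4 : q ^ 6 * r ≤ m := (Nat.pow_le_pow_iff_left two_ne_zero).1 h3
      have h5 : (q ^ 6 * r) ^ 5 ≤ f ^ 5 := Nat.pow_le_pow_left (h4.trans h2) 5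
      have h6 : 0 < (q - 1) ^ 6 := pow_pos (by omega) 6
      refine num_u hq hodd ⟨x, hrel.symm⟩ ?_
      have h7 : q ^ 30 * (r ^ 5 * (q - 1) ^ 6) < q ^ 30 * q ^ 8 := by
        calc q ^ 30 * (r ^ 5 * (q - 1) ^ 6) = (q ^ 6 * r) ^ 5 * (q - 1) ^ 6 := by ring
          _ ≤ f ^ 5 * (q - 1) ^ 6 := Nat.mul_le_mul_right _ h5
          _ < (Subgroup.centralizer ({t} : Set Y)).index * (q - 1) ^ 6 := Nat.mul_lt_mul_of_pos_right hf2 h6
          _ ≤ q ^ 38 := hidx
          _ = _ := by ring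
      exact lt_of_mul_lt_mul_left h7 (Nat.zero_le _)
  obtain ⟨α, β, hα, hβ, hφα, hφβ, hc, rfl⟩ := hγ
  have hA2 := hs.a2 hα hβ hc
  refine le_of_pairing (X := X α) (X' := X β) B (fun b hb y hy => A2.comm_mem R hA2 hb hy) ?_ ?_
    (fun r hr s hs => A2.comm_self R hA2 hr hs) (fun b hb hb1 r hr => A2.comm_surj R hA2 hb hb1 hr) ?_
  · intro r hr b hb
    exact A2.comm_left R hA2 hr hb
  · intro r hr y hy
    exact A2.comm_right R hA2 hr hy
  · rw [hcard α hα]
    have h1 := key α hα hφα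
    have h2 := key β hβ hφβ
    by_contra hcon
    push Not at hcon
    rcases Nat.le_total (B.relIndex (X α)) (B.relIndex (X β)) with h3 | h3
    · exact absurd (hcon.trans (Nat.mul_le_mul_right _ h3)) (by omega)
    · exact absurd (hcon.trans (Nat.mul_le_mul_left _ h3)) (by omega)

/-- the roots orthogonal to the members of `C` -/
def EC (cs : CoxeterSystem M W) (h : IsCartan M A) (C : List (I → ℤ)) : Set (I → ℤ) :=
  {x | IsRoot cs h x ∧ ∀ c ∈ C, cpr cs h x c = 0}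

omit R hs hab hcard hq hodd in
theorem EC_mono (α : I → ℤ) (C : List (I → ℤ)) : EC cs h (α :: C) ⊆ EC cs h C :=
  fun _ hx => ⟨hx.1, fun c hc => hx.2 c (List.mem_cons_of_mem _ hc)⟩

/-- **the induction step** -/
theorem phi_step {C : List (I → ℤ)} (hC : ∀ c ∈ C, IsRoot cs h c) {α : I → ℤ} (hα : α ∈ EC cs h C) {d : ℕ}
    (S₁ S₂ : Finset (I → ℤ)) (hS₁ : ∀ β, β ∈ S₁ ↔ β ∈ EC cs h C ∧ cpr cs h β α = 1)
    (hS₂ : ∀ β, β ∈ S₂ ↔ β ∈ EC cs h C ∧ cpr cs h β (-α) = 1) (hc₁ : S₁.card = 2 * d) (hc₂ : S₂.card = 2 * d)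
    {Zs : Set Y} (hZ2 : ∀ z ∈ Zs, z * z = 1) (hZc : ∀ g ∈ RGD.Sup X (EC cs h C), ∀ z ∈ Zs, g * z * g⁻¹ ∈ Zs)
    {z : Y} (hz : Inv2 cs h T X α z) (hzZ : z ∈ Zs) {c : ℕ}
    (hphi : H203.IF.Phi (RGD.Sup X (EC cs h (α :: C))) Zs c) :
    H203.IF.Phi (RGD.Sup X (EC cs h C)) Zs (q ^ (d + 1) * c) := by
  have hαr := hα.1
  have hmk : ∀ α', IsRoot cs h α' → α' ∈ EC cs h C → (∀ x, IsRoot cs h x → cpr cs h x α = 0 → cpr cs h x α' = 0) →
      ∀ S : Finset (I → ℤ), (∀ β, β ∈ S ↔ β ∈ EC cs h C ∧ cpr cs h β α' = 1) → S.card = 2 * d →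
      H203.IF.Heis (X α') X S (fun β => α' - β) ∧ H203.IF.QQ (X α') X S ≤ RGD.Sup X (EC cs h C) ∧
      Nat.card (H203.IF.QQ (X α') X S) = q ^ (2 * d + 1) ∧
      (∀ l ∈ RGD.Sup X (EC cs h (α :: C)), ∀ u ∈ H203.IF.QQ (X α') X S, l * u * l⁻¹ ∈ H203.IF.QQ (X α') X S) := by
    intro α' hα'r hα' hperp S hS hSc
    have H : H203.IF.Heis (X α') X S (fun β => α' - β) := heis_root R hs hab hα'r S
      (fun β hβ => ⟨((hS β).1 hβ).1.1, ((hS β).1 hβ).2⟩) (fun β hβ => by
        obtain ⟨⟨h1, h2⟩, h3⟩ := (hS β).1 hβ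
        rw [hS]
        have e : α' - β = α' + (-1 : ℤ) • β := by rw [neg_one_smul, sub_eq_add_neg]
        refine ⟨⟨isRoot_sub hα'r h1 (by rw [hs α' β hα'r h1, h3]), fun c hc => ?_⟩, ?_⟩
        · rw [e, cpr_add cs h _ _ (hC c hc), cpr_smul cs h _ _ (hC c hc), hα'.2 c hc, h2 c hc]
          norm_num
        · rw [e, cpr_add cs h _ _ hα'r, cpr_smul cs h _ _ hα'r, cpr_self cs h hα'r, h3]
          norm_num)
    refine ⟨H, H203.IF.Heis.QQ_le (RGD.le_Sup hα') fun β hβ => RGD.le_Sup ((hS β).1 hβ).1, ?_, ?_⟩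
    · rw [card_QQ' H (X_ne_bot R hα'r) (hcard α' hα'r) (fun β hβ => hcard β ((hS β).1 hβ).1.1), hSc]
    · intro l hl u hu
      refine norm_QQ R hs hab hα'r S (fun β hβ => ⟨((hS β).1 hβ).1.1, ((hS β).1 hβ).2⟩) ?_ ?_ hl hu
      · intro γ hγ
        exact ⟨hγ.1, hperp γ hγ.1 (hγ.2 α List.mem_cons_self)⟩
      · intro γ hγ β hβ hγβ
        obtain ⟨⟨h1, h2⟩, h3⟩ := (hS β).1 hβ
        rw [hS]
        refine ⟨⟨hγβ, fun c hc => ?_⟩, ?_⟩
        · rw [cpr_add cs h _ _ (hC c hc), hγ.2 c (List.mem_cons_of_mem _ hc), h2 c hc, add_zero]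
        · rw [cpr_add cs h _ _ hα'r, hperp γ hγ.1 (hγ.2 α List.mem_cons_self), h3, zero_add]
  have hαn : -α ∈ EC cs h C := ⟨hαr.neg, fun c hc => by
    rw [cpr_neg_left _ (hC c hc), hα.2 c hc, neg_zero]⟩
  obtain ⟨H₁, hL₁, hk₁, hn₁⟩ := hmk α hαr hα (fun x _ hx => hx) S₁ hS₁ hc₁
  obtain ⟨H₂, hL₂, hk₂, hn₂⟩ := hmk (-α) hαr.neg hαn (fun x _ hx => by
    rw [cpr_neg_right cs h x hαr, hx, neg_zero]) S₂ hS₂ hc₂
  have ho : Odd (q ^ (2 * d + 1)) := hodd.pow
  refine H203.IF.Phi.step H₁ H₂ hphi (RGD.Sup_mono (EC_mono α C)) hL₁ hL₂ (by rw [hk₁]; exact ho)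
    (by rw [hk₂]; exact ho) hn₁ hn₂ ?_ ?_ (X_ne_bot R hαr) (X_ne_bot R hαr.neg) hZ2 hZc
    (fun u hu v hv hu1 hv1 => ⟨z, hzZ, hz.opp u hu v hv hu1 hv1⟩)
  · rw [hk₁, hcard α hαr]
    exact le_of_eq (by ring)
  · rw [hk₂, hcard _ hαr.neg]
    exact le_of_eq (by ring)

/-- the start of the induction -/
theorem phi_start {C : List (I → ℤ)} (hC : ∀ c ∈ C, IsRoot cs h c) {α : I → ℤ} (hα : α ∈ EC cs h C)
    {Zs : Set Y} {z : Y} (hz : Inv2 cs h T X α z) (hzZ : z ∈ Zs) :
    H203.IF.Phi (RGD.Sup X (EC cs h C)) Zs q := by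
  have hαn : -α ∈ EC cs h C := ⟨hα.1.neg, fun c hc => by
    rw [cpr_neg_left _ (hC c hc), hα.2 c hc, neg_zero]⟩
  exact H203.IF.Phi.start (RGD.le_Sup hα) (RGD.le_Sup hαn) (hcard α hα.1).ge (hcard _ hα.1.neg).ge
    (fun u hu v hv hu1 hv1 => ⟨z, hzZ, hz.opp u hu v hv hu1 hv1⟩)

end

end Cfsg.Agent.H190.IF
end

-- part: H897/IF/ENum
section
/-!
# S5719: the root groups of the Chevalley groups, orders (helper897)

* `neg_one_mem`, `hsim` : the involutions of the fundamental `SL₂`;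
* `XX_comm`, `card_XX`, `TT_comm`;
* `num_E6`, `num_E7`, `num_E8` : `|G| (q - 1)^l ≤ |T| q^dim`.
-/

set_option autoImplicit false
set_option linter.unusedSectionVars false

namespace Cfsg.Agent.H897.IF

open CoxeterSystem
open Cfsg Cfsg.Lie Cfsg.Lie.ChevalleyDatum
open Cfsg.Agent.ChevalleyStructure Cfsg.Agent.ChevalleyStructure.Elts Cfsg.Agent.ChevalleyStructure.CoxeterGeom
  Cfsg.Agent.ChevalleyStructure.RootVec Cfsg.Agent.ChevalleyStructure.RootVecTab
  Cfsg.Agent.ChevalleyStructure.CoxeterGeomTypes Cfsg.Agent.ChevalleyStructure.NPerm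
open Cfsg.Agent.Tits.Roots Cfsg.Agent.Nodes.Reps Cfsg.Agent.Nodes.BNOf Cfsg.Agent.Nodes.RGDChev
  Cfsg.Agent.Nodes.Bruhat Cfsg.Agent.Nodes.Coroot
open Cfsg.Agent.OddHalf.LongSL Cfsg.Agent.OddHalf.LongSL.Chev
open Cfsg.Agent.KFacts.RgdChevCoord (TT XX nc xc ch act coe_xc)
open Cfsg.Agent.GenExc Cfsg.Agent.GenExc.Chev
open Cfsg.Agent.H557.LrAbs Cfsg.Agent.H557.LrSgn Cfsg.Agent.H557.LrTor Cfsg.Agent.H557.LrOrb Cfsg.Agent.H557.LrIso
  Cfsg.Agent.H557.LrChev
open Cfsg.Agent.H190.IF (Inv2 psi psi_apply)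
open scoped commutatorElement MatrixGroups

/-- `-1 ∈ ⟨up a, lo b⟩` -/
theorem neg_one_mem {F : Type*} [Field F] [Finite F] (h2 : (2 : F) ≠ 0) {a b : F} (ha : a ≠ 0) (hb : b ≠ 0) :
    (-1 : SL(2, F)) ∈ Subgroup.closure {SL2Hom.up a, SL2Hom.lo b} := by
  refine Cfsg.Agent.H17.IFSp.lr_sl2 h2 ha hb _ (fun g hg => ?_) (fun g hg => ?_)
  · have : g = SL2Hom.lo b := Subtype.ext hg
    rw [this]
    exact Subgroup.subset_closure (Or.inr rfl)
  · have : g = SL2Hom.up a := Subtype.ext hg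
    rw [this]
    exact Subgroup.subset_closure (Or.inl rfl)

variable {D : ChevalleyDatum} {l : ℕ} {M : CoxeterMatrix (Fin l)} (hp : IsType D l M) {K : Type} [Field K]
  {W : Type*} [Group W] (cs : CoxeterSystem M W)

/-- the root groups are commutative -/
theorem XX_comm {b : Fin l → ℤ} (hb : IsRoot cs hp.isCartan b) : ∀ x ∈ XX D l K b, ∀ y ∈ XX D l K b, x * y = y * x := by
  obtain ⟨s, hs, rfl⟩ := (isRoot_iff hp cs b).1 hb
  intro x hx y hy
  obtain ⟨t, ht⟩ := (mem_XX hp K hs).1 hx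
  obtain ⟨t', ht'⟩ := (mem_XX hp K hs).1 hy
  apply Subtype.ext
  rw [Subgroup.coe_mul, Subgroup.coe_mul, ht, ht', xG_add, xG_add, add_comm]

/-- the order of a root group -/
theorem card_XX {x : Fin l → ℤ} (hx : IsRoot cs hp.isCartan x) : Nat.card (XX D l K x) = Nat.card K := by
  obtain ⟨r, hr, rfl⟩ := (isRoot_iff hp cs x).1 hx
  refine (Nat.card_congr (Equiv.ofBijective (fun t : K => (⟨⟨xG hp.inList r t, xG_mem_group hp.inList r t⟩,
    (mem_XX hp K hr).2 ⟨t, rfl⟩⟩ : XX D l K (vec D l r))) ⟨?_, ?_⟩)).symm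
  · intro s t h
    exact xG_injective hp.inList hr (congrArg (fun z : XX D l K (vec D l r) => ((z : ↥(D.group K)) : GL D.Idx K)) h)
  · rintro ⟨u, hu⟩
    obtain ⟨t, ht⟩ := (mem_XX hp K hr).1 hu
    exact ⟨t, Subtype.ext (Subtype.ext ht.symm)⟩

/-- **The involutions of the fundamental `SL₂`.** -/
theorem hsim [Finite W] [Finite K] (h2 : (2 : K) ≠ 0) (i : Fin l) :
    ∃ z, Inv2 cs hp.isCartan (TT D K) (XX D l K) (sr i) z := by
  have hri := isRoot_sr cs hp.isCartan i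
  have h0 := RootVec.simple_lt hp.checked (lt_rank hp i)
  have e1 : (sr i : Fin l → ℤ) = vec D l (D.simple i) := (vec_simple hp i).symm
  have e2 : (-sr i : Fin l → ℤ) = vec D l (D.neg (D.simple i)) := by rw [vec_neg hp h0, vec_simple hp i]
  have hS := sgnEl_zS hp K cs [i]
  have hpsi : ∀ a, psi hri a = csz (cartanOf D l) [i] a := by
    intro a
    rw [psi_apply, csz_apply]
    unfold csv
    rw [List.map_singleton, List.sum_singleton, cpr_sr]
  refine ⟨zS hp K [i], hri, ⟨hS.mem, fun a ha h1 => hS.fix a ha (by rw [← hpsi]; exact h1),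
    fun a ha h1 => hS.inv a ha (by rw [← hpsi]; exact h1)⟩, ?_⟩
  intro u hu v hv hu1 hv1
  have hz : zS hp K [i] = phi hp K i (-1) := by rw [zS_cons, zS_nil, mul_one]
  obtain ⟨a, ha⟩ := (mem_XX hp K h0).1 (show u ∈ XX D l K (vec D l (D.simple i)) by rw [← e1]; exact hu)
  obtain ⟨b, hb⟩ := (mem_XX hp K (_root_.Cfsg.Agent.ChevalleyStructure.RootVec.neg_lt hp.checked h0)).1
    (show v ∈ XX D l K (vec D l (D.neg (D.simple i))) by rw [← e2]; exact hv)
  have ea : u = phi hp K i (SL2Hom.up a) := Subtype.ext (by rw [phi_up, ha])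
  have eb : v = phi hp K i (SL2Hom.lo b) := Subtype.ext (by rw [phi_lo, hb])
  have ha0 : a ≠ 0 := by
    rintro rfl
    apply hu1
    apply Subtype.ext
    rw [ha, xG_zero]; rfl
  have hb0 : b ≠ 0 := by
    rintro rfl
    apply hv1
    apply Subtype.ext
    rw [hb, xG_zero]; rfl
  rw [hz, ea, eb]
  have h3 := Subgroup.mem_map_of_mem (phi hp K i) (neg_one_mem h2 ha0 hb0)
  rw [MonoidHom.map_closure, Set.image_pair] at h3
  exact h3

/-! ### orders -/

theorem prod_le (q : ℕ) (L : List ℕ) : (L.map fun k => q ^ k - 1).prod ≤ q ^ L.sum := by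
  induction L with
  | nil => simp
  | cons a L ih =>
    rw [List.map_cons, List.prod_cons, List.sum_cons, pow_add]
    exact Nat.mul_le_mul (Nat.sub_le _ _) ih

theorem card_TT (hD : InList D) : Nat.card (TT D K) = Nat.card (D.diagonalSubgroup K) :=
  Nat.card_congr (Subgroup.subgroupOfEquivOfLe (diagonal_le_group hD K)).toEquiv

theorem num_aux {d g t q r N S : ℕ} {L : List ℕ} (hd : 0 < d) (h1 : d * g = q ^ N * (L.map fun k => q ^ k - 1).prod)
    (h2 : d * t = (q - 1) ^ r) (hS : N + L.sum = S) : g * (q - 1) ^ r ≤ t * q ^ S := by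
  refine Nat.le_of_mul_le_mul_left ?_ hd
  calc d * (g * (q - 1) ^ r) = (d * g) * (q - 1) ^ r := by ring
    _ = q ^ N * (L.map fun k => q ^ k - 1).prod * (d * t) := by rw [h1, h2]
    _ ≤ q ^ N * q ^ L.sum * (d * t) := by gcongr; exact prod_le q L
    _ = d * (t * q ^ S) := by rw [← hS, pow_add]; ring

theorem num_E6 [Fintype K] : Nat.card (chevE6.group K) * (Nat.card K - 1) ^ 6 ≤ Nat.card (TT chevE6 K) * Nat.card K ^ 78 := by
  rw [card_TT (by simp), Nat.card_eq_fintype_card (α := K)]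
  have h1 := OrderFinal.order_formula (F := K) rfl chevE6 (Nat.gcd 3 (Fintype.card K - 1)) [2, 5, 6, 8, 9, 12] (by simp only [_root_.List.mem_cons, _root_.Prod.mk.injEq, _root_.List.not_mem_nil, _root_.or_false, _root_.true_or, _root_.or_true])
    (by simp) (CardCombAll.comb_of_mem (by simp)) (by simp) rfl
  have h2 := S1035.result (F := K) rfl (chevE6, Nat.gcd 3 (Fintype.card K - 1)) (by simp only [_root_.List.mem_cons, _root_.Prod.mk.injEq, _root_.List.not_mem_nil, _root_.or_false, _root_.true_or, _root_.or_true])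
  exact num_aux (Nat.gcd_pos_of_pos_left _ (by norm_num)) h1 h2 rfl

theorem num_E7 [Fintype K] : Nat.card (chevE7.group K) * (Nat.card K - 1) ^ 7 ≤ Nat.card (TT chevE7 K) * Nat.card K ^ 133 := by
  rw [card_TT (by simp), Nat.card_eq_fintype_card (α := K)]
  have h1 := OrderFinal.order_formula (F := K) rfl chevE7 (Nat.gcd 2 (Fintype.card K - 1)) [2, 6, 8, 10, 12, 14, 18]
    (by simp only [_root_.List.mem_cons, _root_.Prod.mk.injEq, _root_.Nat.coprime_two_left, _root_.and_true, _root_.List.not_mem_nil, _root_.or_false, _root_.true_or, _root_.or_true]) (by simp) (CardCombAll.comb_of_mem (by simp)) (by simp) rfl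
  have h2 := S1035.result (F := K) rfl (chevE7, Nat.gcd 2 (Fintype.card K - 1)) (by simp only [_root_.List.mem_cons, _root_.Prod.mk.injEq, _root_.Nat.coprime_two_left, _root_.and_true, _root_.List.not_mem_nil, _root_.or_false, _root_.true_or, _root_.or_true])
  exact num_aux (Nat.gcd_pos_of_pos_left _ (by norm_num)) h1 h2 rfl

theorem num_E8 [Fintype K] : Nat.card (chevE8.group K) * (Nat.card K - 1) ^ 8 ≤ Nat.card (TT chevE8 K) * Nat.card K ^ 248 := by
  rw [card_TT (by simp), Nat.card_eq_fintype_card (α := K)]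
  have h1 := OrderFinal.order_formula (F := K) rfl chevE8 1 [2, 8, 12, 14, 18, 20, 24, 30]
    (by simp only [_root_.List.mem_cons, _root_.Prod.mk.injEq, _root_.and_true, _root_.List.not_mem_nil, _root_.or_false, _root_.true_or, _root_.or_true]) (by simp) (CardCombAll.comb_of_mem (by simp)) (by simp only [_root_.List.mem_cons, _root_.Prod.mk.injEq, _root_.List.cons.injEq, _root_.Nat.reduceEqDiff, _root_.reduceCtorEq, _root_.and_self, _root_.and_false, _root_.List.cons_ne_self, _root_.List.not_mem_nil, _root_.or_false, _root_.or_true]) rfl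
  have h2 := S1035.result (F := K) rfl (chevE8, 1) (by simp only [_root_.List.mem_cons, _root_.Prod.mk.injEq, _root_.and_true, _root_.List.not_mem_nil, _root_.or_false, _root_.true_or, _root_.or_true])
  exact num_aux (by norm_num) h1 h2 rfl

end Cfsg.Agent.H897.IF
end
end
end
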