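import Cfsg.Agent.H203.IF.Heis
import Cfsg.Agent.H808.Gs.Root
import Cfsg.Agent.H400.TwoExcTabE_m3
import Cfsg.Agent.H897.X3.Base
import Cfsg.Agent.Nodes.SimplyLaced
import Cfsg.Agent.Lib.ListFast
import Cfsg.Agent.Prune
set_option linter.all false
prune_inst 0x7f00000000000000000000000000000000000000000000000000000000000000000000000000000000000000000000000000000000000000000000000000000000000000000000000000000000000000003fffffffffffffffffffffffffffbeffbdffffffff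
open scoped Cfsg.Agent.FastGrp

-- part: H897/IF/RootHeis
section
/-!
# S5719: Heisenberg groups of long roots in simply laced groups, and the chains (helper897)

* `heis` : the datum of helper203 for a root `b` in a closed set of roots (`Cl P`);
* `card_QQ` : its order;
* `phi_chain` : a chain of orthogonal roots in `P` gives `Phi` with the constant `q ^ wt`.
-/

set_option autoImplicit false
set_option linter.unusedSectionVars false

namespace Cfsg.Agent.H897.IF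

open Subgroup
open CoxeterSystem Cfsg.Agent.ChevalleyStructure.CoxeterGeom Cfsg.Agent.Tits.Roots Cfsg.Agent.Tits.Core
  Cfsg.Agent.Nodes.Reps Cfsg.Agent.Nodes.BNOf Cfsg.Agent.Nodes.Coroot Cfsg.Agent.KFacts.RgdSL
open Cfsg.Agent.H808.Gs (bil cpr_eq_bil comm_X')
open Cfsg.Agent.H203.IF (Heis QQ Phi)
open scoped commutatorElement

variable {I W Y : Type*} [Fintype I] [DecidableEq I] [Group W] [Group Y] {M : CoxeterMatrix I}
  {cs : CoxeterSystem M W} {A : I → I → ℤ} {h : IsCartan M A} {p : ℕ} {T : Subgroup Y} {n : I → Y}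
  {X : (I → ℤ) → Subgroup Y}

/-! ### the combinatorics -/

/-- the list of the roots -/
structure RL (cs : CoxeterSystem M W) (h : IsCartan M A) (Rts : List (I → ℤ)) : Prop where
  mem : ∀ x, x ∈ Rts ↔ IsRoot cs h x
  nodup : Rts.Nodup

/-- the indicator of a subgroup of the lattice -/
structure Cl (P : (I → ℤ) → Bool) : Prop where
  add : ∀ x y, P x = true → P y = true → P (x + y) = true
  neg : ∀ x, P x = true → P (-x) = true

/-! ### the Heisenberg datum -/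

section RG

variable (R : RGD cs h p T n X) [Finite W] (hs : SL cs h)
  (hab : ∀ r, IsRoot cs h r → ∀ u ∈ X r, ∀ v ∈ X r, u * v = v * u)

include R hs hab

end RG

/-! ### chains -/

section Chain

variable (R : RGD cs h p T n X) [Finite W] (hs : SL cs h) [Finite Y]
  (hab : ∀ r, IsRoot cs h r → ∀ u ∈ X r, ∀ v ∈ X r, u * v = v * u)

include R hs hab

end Chain

end Cfsg.Agent.H897.IF
end

-- part: H897/IF/ETab
section
/-!
# S5719: tables of the roots of `E₇`, `E₈` (helper897)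

* `trans7`, `trans8` : transitivity on the roots;
* `cnt7`, `cnt8` : the roots of `{θ}^⊥` at 60° to `x ∈ {θ}^⊥` : 16, 32;
* `cnt7b`, `cnt8b` : the roots of `{θ, α₁}^⊥` at 60° to `α₂` : 8, 16;
* `ex7`, `ex8` : a root orthogonal to two roots;
* `ev7`, `ev8` : the positive roots with even product with the highest root : 31, 64;
* `rl7`, `rl8` : the lists of the roots (`RL`).
-/

set_option autoImplicit false
set_option linter.unusedSectionVars false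

namespace Cfsg.Agent.H897.IF

open CoxeterSystem Cfsg Cfsg.Lie Cfsg.Lie.ChevalleyDatum
open Cfsg.Agent.ChevalleyStructure Cfsg.Agent.ChevalleyStructure.Elts Cfsg.Agent.ChevalleyStructure.CoxeterGeom
  Cfsg.Agent.ChevalleyStructure.CoxeterGeomTypes
open Cfsg.Agent.Tits.Roots Cfsg.Agent.Tits.Core Cfsg.Agent.Nodes.Reps Cfsg.Agent.Nodes.RGDChev Cfsg.Agent.Nodes.Coroot
  Cfsg.Agent.KFacts.RgdSL
open Cfsg.Agent.H808.Gs (bil cpr_eq_bil)
open Cfsg.Agent.H400.TwoExc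
open Cfsg.Agent.H897.T5Conn (Par)

/-! ### tables -/

section Gen

variable {l : ℕ} {W : Type*} [Group W] {M : CoxeterMatrix (Fin l)} {cs : CoxeterSystem M W} {A : Fin l → Fin l → ℤ}
  {h : IsCartan M A} {P : List (List ℤ × List ℤ × ℕ)}

/-- a table: the positive roots and their products with the simple roots -/
structure TB (A : Fin l → Fin l → ℤ) (P : List (List ℤ × List ℤ × ℕ)) : Prop where
  H : PR A (P.map fun p => (toV p.1 : Fin l → ℤ))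
  len : ∀ p ∈ P, p.1.length = l
  row : ∀ p ∈ P, p.2.1 = List.ofFn fun i => pairing A i (toV p.1)

theorem tb_of {CA : List (List ℤ)} {dl : List ℤ} (hA : ∀ i : Fin l, CA.getD i [] = List.ofFn (A i))
    (hdl : ∀ i : Fin l, dl.getD i 0 = 1) (hck : chkT l CA dl (fun _ => 1) P = true) : TB A P := by
  obtain ⟨H, F⟩ := of_chkT hA hck (e := fun _ => 1) (fun _ _ => rfl)
  refine ⟨H, fun p hp => (F.row p hp).1, fun p hp => ?_⟩
  rw [(F.row p hp).2.1]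
  congr 1
  funext i
  have : (toV dl : Fin l → ℤ) i = 1 := hdl i
  rw [this, one_mul]

variable (T : TB A P)

include T

theorem TB.root {p : List ℤ × List ℤ × ℕ} (hp : p ∈ P) : IsRoot cs h (toV p.1) :=
  T.H.isRoot (List.mem_map.2 ⟨p, hp, rfl⟩)

theorem TB.cases {x : Fin l → ℤ} (hx : IsRoot cs h x) : ∃ p ∈ P, x = toV p.1 ∨ x = -toV p.1 := by
  rcases (T.H.root_iff (cs := cs) (h := h) x).1 hx with h1 | h1
  · obtain ⟨p, hp, e⟩ := List.mem_map.1 h1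
    exact ⟨p, hp, Or.inl e.symm⟩
  · obtain ⟨p, hp, e⟩ := List.mem_map.1 h1
    exact ⟨p, hp, Or.inr (by rw [e, neg_neg])⟩

theorem TB.cpr_row [Finite W] (hs : SL cs h) {p q : List ℤ × List ℤ × ℕ} (hp : p ∈ P) (hq : q ∈ P) :
    cpr cs h (toV q.1) (toV p.1) = dotL p.2.1 q.1 := by
  rw [cpr_eq_bil hs _ (T.root hp), T.row p hp, dotL_ofFn _ _ (T.len q hq)]
  unfold bil
  exact Finset.sum_congr rfl fun i _ => mul_comm _ _

/-- **Counting roots.** -/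
theorem TB.ncard_eq (Q : (Fin l → ℤ) → Prop) (c c' : List ℤ × List ℤ × ℕ → Bool)
    (hc : ∀ p ∈ P, Q (toV p.1) ↔ c p = true) (hc' : ∀ p ∈ P, Q (-toV p.1) ↔ c' p = true) :
    {β | IsRoot cs h β ∧ Q β}.ncard = (P.filter c).length + (P.filter c').length := by
  classical
  have hn : ∀ b : List ℤ × List ℤ × ℕ → Bool, ((P.filter b).map fun p => (toV p.1 : Fin l → ℤ)).Nodup := fun b =>
    T.H.nodup.sublist ((List.filter_sublist (l := P)).map _)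
  have hn' : ∀ b : List ℤ × List ℤ × ℕ → Bool,
      (((P.filter b).map fun p => (toV p.1 : Fin l → ℤ)).map fun v => -v).Nodup := fun b =>
    (hn b).map neg_injective
  have e : {β | IsRoot cs h β ∧ Q β} = ((((P.filter c).map fun p => (toV p.1 : Fin l → ℤ)).toFinset ∪
      (((P.filter c').map fun p => (toV p.1 : Fin l → ℤ)).map fun v => -v).toFinset : Finset (Fin l → ℤ)) :
      Set (Fin l → ℤ)) := by
    ext x
    rw [Finset.mem_coe, Finset.mem_union, List.mem_toFinset, List.mem_toFinset, Set.mem_ofPred_eq]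
    constructor
    · rintro ⟨hx, hQ⟩
      obtain ⟨p, hp, rfl | rfl⟩ := T.cases hx
      · exact Or.inl (List.mem_map.2 ⟨p, List.mem_filter.2 ⟨hp, (hc p hp).1 hQ⟩, rfl⟩)
      · exact Or.inr (List.mem_map.2 ⟨_, List.mem_map.2 ⟨p, List.mem_filter.2 ⟨hp, (hc' p hp).1 hQ⟩, rfl⟩, rfl⟩)
    · rintro (h1 | h1)
      · obtain ⟨p, hp, rfl⟩ := List.mem_map.1 h1
        obtain ⟨hp, h2⟩ := List.mem_filter.1 hp
        exact ⟨T.root hp, (hc p hp).2 h2⟩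
      · obtain ⟨v, hv, rfl⟩ := List.mem_map.1 h1
        obtain ⟨p, hp, rfl⟩ := List.mem_map.1 hv
        obtain ⟨hp, h2⟩ := List.mem_filter.1 hp
        exact ⟨(T.root (cs := cs) (h := h) hp).neg, (hc' p hp).2 h2⟩
  rw [e, Set.ncard_coe_finset, Finset.card_union_of_disjoint, List.toFinset_card_of_nodup (hn c),
    List.toFinset_card_of_nodup (hn' c'), List.length_map, List.length_map, List.length_map]
  rw [Finset.disjoint_left]
  intro x h1 h2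
  rw [List.mem_toFinset] at h1 h2
  obtain ⟨p, hp, rfl⟩ := List.mem_map.1 h1
  obtain ⟨v, hv, e1⟩ := List.mem_map.1 h2
  obtain ⟨q, hq, rfl⟩ := List.mem_map.1 hv
  refine T.H.not_both (v := toV p.1) (List.mem_map.2 ⟨p, List.mem_of_mem_filter hp, rfl⟩) ?_
  rw [← e1, neg_neg]
  exact List.mem_map.2 ⟨q, List.mem_of_mem_filter hq, rfl⟩

/-- the first count -/
def C1 (P : List (List ℤ × List ℤ × ℕ)) (t p : List ℤ) (s : ℤ) : ℕ :=
  (P.filter fun q => dotL t q.1 == 0 && dotL p q.1 == s).length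

theorem TB.cnt1 [Finite W] (hs : SL cs h) {t p : List ℤ × List ℤ × ℕ} (ht : t ∈ P) (hp : p ∈ P) (s : ℤ) :
    {β | IsRoot cs h β ∧ cpr cs h β (toV t.1) = 0 ∧ cpr cs h β (toV p.1) = s}.ncard =
      C1 P t.2.1 p.2.1 s + C1 P t.2.1 p.2.1 (-s) := by
  refine T.ncard_eq _ _ _ (fun q hq => ?_) (fun q hq => ?_)
  · rw [T.cpr_row hs ht hq, T.cpr_row hs hp hq, Bool.and_eq_true, beq_iff_eq, beq_iff_eq]
  · rw [cpr_neg_left _ (T.root ht), cpr_neg_left _ (T.root hp), T.cpr_row hs ht hq, T.cpr_row hs hp hq,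
      Bool.and_eq_true, beq_iff_eq, beq_iff_eq, neg_eq_zero, neg_eq_iff_eq_neg]

/-- **T2** -/
theorem TB.cnt [Finite W] (hs : SL cs h)
    (htr : ∀ a b : Fin l → ℤ, IsRoot cs h a → IsRoot cs h b → ∃ w : W, rep cs h w a = b)
    {t : List ℤ × List ℤ × ℕ} (ht : t ∈ P) {N : ℕ}
    (hck : ∀ p ∈ P, dotL t.2.1 p.1 = 0 → C1 P t.2.1 p.2.1 1 + C1 P t.2.1 p.2.1 (-1) = N)
    {θ x : Fin l → ℤ} (hθ : IsRoot cs h θ) (hx : IsRoot cs h x) (h0 : cpr cs h x θ = 0) :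
    {β | IsRoot cs h β ∧ cpr cs h β θ = 0 ∧ cpr cs h β x = 1}.ncard = N := by
  obtain ⟨w, hw⟩ := htr θ (toV t.1) hθ (T.root ht)
  have e : {β | IsRoot cs h β ∧ cpr cs h β (toV t.1) = 0 ∧ cpr cs h β (rep cs h w x) = 1} =
      (rep cs h w) '' {β | IsRoot cs h β ∧ cpr cs h β θ = 0 ∧ cpr cs h β x = 1} := by
    ext β
    rw [Set.mem_image]
    constructor
    · rintro ⟨h1, h2, h3⟩
      refine ⟨rep cs h w⁻¹ β, ⟨h1.act _, ?_, ?_⟩, by rw [rep_apply_inv]⟩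
      · rw [← cpr_rep cs h w _ hθ, rep_apply_inv, hw]; exact h2
      · rw [← cpr_rep cs h w _ hx, rep_apply_inv]; exact h3
    · rintro ⟨γ, ⟨h1, h2, h3⟩, rfl⟩
      exact ⟨h1.act w, by rw [← hw, cpr_rep cs h w _ hθ]; exact h2, by rw [cpr_rep cs h w _ hx]; exact h3⟩
  have hinj : Function.Injective (rep cs h w) := fun a b hab => by
    rw [← rep_inv_apply cs h w a, hab, rep_inv_apply]
  rw [← Set.ncard_image_of_injective _ hinj, ← e]
  have h0' : cpr cs h (rep cs h w x) (toV t.1) = 0 := by rw [← hw, cpr_rep cs h w _ hθ]; exact h0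
  obtain ⟨p, hp, e1 | e1⟩ := T.cases (hx.act w)
  · rw [e1] at h0' ⊢
    rw [T.cpr_row hs ht hp] at h0'
    rw [T.cnt1 hs ht hp, hck p hp h0']
  · rw [e1] at h0' ⊢
    rw [cpr_neg_left _ (T.root ht), T.cpr_row hs ht hp, neg_eq_zero] at h0'
    have e2 : {β | IsRoot cs h β ∧ cpr cs h β (toV t.1) = 0 ∧ cpr cs h β (-toV p.1) = 1} =
        {β | IsRoot cs h β ∧ cpr cs h β (toV t.1) = 0 ∧ cpr cs h β (toV p.1) = -1} := by
      ext β
      rw [Set.mem_ofPred_eq, Set.mem_ofPred_eq, cpr_neg_right cs h _ (T.root hp), neg_eq_iff_eq_neg]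
    rw [e2, T.cnt1 hs ht hp, neg_neg, add_comm, hck p hp h0']

/-- the second count -/
def C2 (P : List (List ℤ × List ℤ × ℕ)) (t p r : List ℤ) (s : ℤ) : ℕ :=
  (P.filter fun q => dotL t q.1 == 0 && (dotL p q.1 == 0 && dotL r q.1 == s)).length

theorem TB.cnt2 [Finite W] (hs : SL cs h) {t p r : List ℤ × List ℤ × ℕ} (ht : t ∈ P) (hp : p ∈ P) (hr : r ∈ P) (s : ℤ) :
    {β | IsRoot cs h β ∧ cpr cs h β (toV t.1) = 0 ∧ cpr cs h β (toV p.1) = 0 ∧ cpr cs h β (toV r.1) = s}.ncard =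
      C2 P t.2.1 p.2.1 r.2.1 s + C2 P t.2.1 p.2.1 r.2.1 (-s) := by
  refine T.ncard_eq _ _ _ (fun q hq => ?_) (fun q hq => ?_)
  · rw [T.cpr_row hs ht hq, T.cpr_row hs hp hq, T.cpr_row hs hr hq, Bool.and_eq_true, Bool.and_eq_true, beq_iff_eq,
      beq_iff_eq, beq_iff_eq]
  · rw [cpr_neg_left _ (T.root ht), cpr_neg_left _ (T.root hp), cpr_neg_left _ (T.root hr), T.cpr_row hs ht hq,
      T.cpr_row hs hp hq, T.cpr_row hs hr hq, Bool.and_eq_true, Bool.and_eq_true, beq_iff_eq, beq_iff_eq, beq_iff_eq,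
      neg_eq_zero, neg_eq_zero, neg_eq_iff_eq_neg]

/-- **T3** -/
theorem TB.ex2 [Finite W] (hs : SL cs h) {t p r : List ℤ × List ℤ × ℕ} (ht : t ∈ P) (hp : p ∈ P) (hr : r ∈ P) {N : ℕ}
    (h1 : dotL t.2.1 p.1 = 0) (h2 : dotL t.2.1 r.1 = 0) (h3 : dotL p.2.1 r.1 = 0)
    (hck : C2 P t.2.1 p.2.1 r.2.1 1 + C2 P t.2.1 p.2.1 r.2.1 (-1) = N) :
    cpr cs h (toV p.1) (toV t.1) = 0 ∧ cpr cs h (toV r.1) (toV t.1) = 0 ∧ cpr cs h (toV r.1) (toV p.1) = 0 ∧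
      {β | IsRoot cs h β ∧ cpr cs h β (toV t.1) = 0 ∧ cpr cs h β (toV p.1) = 0 ∧ cpr cs h β (toV r.1) = 1}.ncard = N ∧
      {β | IsRoot cs h β ∧ cpr cs h β (toV t.1) = 0 ∧ cpr cs h β (toV p.1) = 0 ∧ cpr cs h β (-toV r.1) = 1}.ncard = N := by
  refine ⟨by rw [T.cpr_row hs ht hp]; exact h1, by rw [T.cpr_row hs ht hr]; exact h2,
    by rw [T.cpr_row hs hp hr]; exact h3, by rw [T.cnt2 hs ht hp hr]; exact hck, ?_⟩
  have e2 : {β | IsRoot cs h β ∧ cpr cs h β (toV t.1) = 0 ∧ cpr cs h β (toV p.1) = 0 ∧ cpr cs h β (-toV r.1) = 1} =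
      {β | IsRoot cs h β ∧ cpr cs h β (toV t.1) = 0 ∧ cpr cs h β (toV p.1) = 0 ∧ cpr cs h β (toV r.1) = -1} := by
    ext β
    rw [Set.mem_ofPred_eq, Set.mem_ofPred_eq, cpr_neg_right cs h _ (T.root hr), neg_eq_iff_eq_neg]
  rw [e2, T.cnt2 hs ht hp hr, neg_neg, add_comm]
  exact hck

/-- **T4** -/
theorem TB.orth [Finite W] (hs : SL cs h)
    (htr : ∀ a b : Fin l → ℤ, IsRoot cs h a → IsRoot cs h b → ∃ w : W, rep cs h w a = b)
    {t : List ℤ × List ℤ × ℕ} (ht : t ∈ P)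
    (hck : ∀ p ∈ P, ∃ q ∈ P, dotL t.2.1 q.1 = 0 ∧ dotL p.2.1 q.1 = 0)
    {θ r : Fin l → ℤ} (hθ : IsRoot cs h θ) (hr : IsRoot cs h r) :
    ∃ x, IsRoot cs h x ∧ cpr cs h x θ = 0 ∧ cpr cs h r x = 0 := by
  obtain ⟨w, hw⟩ := htr θ (toV t.1) hθ (T.root ht)
  obtain ⟨p, hp, e1⟩ := T.cases (hr.act w)
  obtain ⟨q, hq, h1, h2⟩ := hck p hp
  have hq' := T.root (cs := cs) (h := h) hq
  refine ⟨rep cs h w⁻¹ (toV q.1), hq'.act _, ?_, ?_⟩
  · rw [← cpr_rep cs h w _ hθ, rep_apply_inv, hw, T.cpr_row hs ht hq]; exact h1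
  · rw [← cpr_rep cs h w _ (hq'.act _), rep_apply_inv]
    have h3 : cpr cs h (toV p.1) (toV q.1) = 0 := by
      rw [hs _ _ (T.root hp) hq', T.cpr_row hs hp hq]; exact h2
    rcases e1 with e1 | e1
    · rw [e1]; exact h3
    · rw [e1, cpr_neg_left _ hq', h3, neg_zero]

/-- **T7** -/
theorem TB.even [Finite W] (hs : SL cs h) {t : List ℤ × List ℤ × ℕ} (ht : t ∈ P) :
    {x | IsRoot cs h x ∧ 0 ≤ x ∧ Even (cpr cs h x (toV t.1))}.ncard =
      (P.filter fun q => dotL t.2.1 q.1 % 2 == 0).length := by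
  have e := T.ncard_eq (cs := cs) (h := h) (fun x => 0 ≤ x ∧ Even (cpr cs h x (toV t.1)))
    (fun q => dotL t.2.1 q.1 % 2 == 0) (fun _ => false) (fun q hq => ?_) (fun q hq => ?_)
  · rw [e, List.filter_false, List.length_nil, add_zero]
  · rw [T.cpr_row hs ht hq, beq_iff_eq, Int.even_iff]
    exact ⟨fun h1 => h1.2, fun h1 => ⟨T.H.pos _ (List.mem_map.2 ⟨q, hq, rfl⟩), h1⟩⟩
  · refine ⟨fun h1 => ?_, fun h1 => absurd h1 (by simp)⟩
    exfalso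
    have h2 := T.H.pos _ (List.mem_map.2 ⟨q, hq, rfl⟩)
    have h3 : (toV q.1 : Fin l → ℤ) = 0 := le_antisymm (neg_nonneg.1 h1.1) h2
    exact T.H.ne (h3 ▸ List.mem_map.2 ⟨q, hq, rfl⟩)

end Gen

/-! ### `E₇` -/

/-- the highest root of `E₇` -/
def th7 : Fin 7 → ℤ := toV [2, 2, 3, 4, 3, 2, 1]

/-- the highest root of `{th7}^⊥` (`D₆`) -/
def al7 : Fin 7 → ℤ := toV [0, 1, 1, 2, 2, 2, 1]

/-- a root of `{th7, al7}^⊥` (in `D₄`) -/
def be7 : Fin 7 → ℤ := toV [0, 1, 1, 2, 1, 0, 0]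

private noncomputable def _root_.Cfsg.Agent.LsF.f794c3c_0 : {f // @Cfsg.Lie.ChevalleyDatum.cartan = f} := ⟨_, by first | (delta Cfsg.Lie.ChevalleyDatum.cartan; rewrite [Cfsg.Agent.LsF.agetD_eq]; exact rfl) | exact rfl⟩
private noncomputable def _root_.Cfsg.Agent.LsF.f794c3c_1 : {f // @Cfsg.Lie.ChevalleyDatum.simple = f} := ⟨_, by first | (delta Cfsg.Lie.ChevalleyDatum.simple; rewrite [Cfsg.Agent.LsF.agetD_eq]; exact rfl) | exact rfl⟩
private noncomputable def _root_.Cfsg.Agent.LsF.f794c3c_2 : {f // @Cfsg.Agent.ChevalleyStructure.CoxeterGeomTypes.cartanOf = f} := ⟨_, by first | (delta Cfsg.Agent.ChevalleyStructure.CoxeterGeomTypes.cartanOf; rewrite [Cfsg.Agent.LsF.f794c3c_0.2, Cfsg.Agent.LsF.f794c3c_1.2]; exact rfl) | exact rfl⟩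
theorem tb7 : TB (cartanOf chevE7 7) PE7 := tb_of (CA := CAE7) (dl := dlE7) (by (refine of_decide_eq_true ?_; (try (rewrite [Cfsg.Agent.LsF.f794c3c_2.2, Cfsg.Agent.LsF.getD_eq, Cfsg.Agent.LsF.instIDecEq_eq, Cfsg.Agent.LsF.dListEq_eq, Cfsg.Agent.LsF.dForallFin_eq, Cfsg.Agent.LsF.ofFn_eq, Cfsg.Agent.LsF.decide_eq])); decide +kernel)) (by decide +kernel) chkE7

/-- the rows -/
theorem rows7 : ([2, 2, 3, 4, 3, 2, 1], [1, 0, 0, 0, 0, 0, 0], 1) ∈ PE7 ∧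
    ([0, 1, 1, 2, 2, 2, 1], [-1, 0, 0, 0, 0, 1, 0], 1) ∈ PE7 ∧
    ([0, 1, 1, 2, 1, 0, 0], [-1, 0, 0, 1, 0, -1, 0], 1) ∈ PE7 := by decide +kernel

private noncomputable def _root_.Cfsg.Agent.LsF.f794c3c_3 : {f // @Cfsg.Agent.H400.TwoExc.dotL = f} := ⟨_, by first | (delta Cfsg.Agent.H400.TwoExc.dotL List.brecOn List.brecOn.go Cfsg.Agent.H400.TwoExc.dotL._f; rewrite [Cfsg.Agent.LsF.iadd_pat, Cfsg.Agent.LsF.imul_pat]; (try delta Cfsg.Agent.H400.TwoExc.dotL.match_1); (try delta Cfsg.Agent.H400.TwoExc.dotL._sparseCasesOn_1); first | dsimp -zeta only | exact rfl) | exact rfl⟩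
private noncomputable def _root_.Cfsg.Agent.LsF.f794c3c_4 : {f // @Cfsg.Agent.H897.IF.C1 = f} := ⟨_, by first | (delta Cfsg.Agent.H897.IF.C1; rewrite [Cfsg.Agent.LsF.f794c3c_3.2, Cfsg.Agent.LsF.ibeq_pat, Cfsg.Agent.LsF.and_eq, Cfsg.Agent.LsF.filter_eq, Cfsg.Agent.LsF.length_eq]; exact rfl) | exact rfl⟩
theorem chk7 : ∀ p ∈ PE7, dotL [1, 0, 0, 0, 0, 0, 0] p.1 = 0 →
    C1 PE7 [1, 0, 0, 0, 0, 0, 0] p.2.1 1 + C1 PE7 [1, 0, 0, 0, 0, 0, 0] p.2.1 (-1) = 16 := by (refine of_decide_eq_true ?_; (try (rewrite [Cfsg.Agent.LsF.f794c3c_3.2, Cfsg.Agent.LsF.f794c3c_4.2, Cfsg.Agent.LsF.nadd_pat, Cfsg.Agent.LsF.ineg_pat, Cfsg.Agent.LsF.instDecEq_eq, Cfsg.Agent.LsF.instIDecEq_eq, Cfsg.Agent.LsF.dBAll_eq, Cfsg.Agent.LsF.dAllP_eq, Cfsg.Agent.LsF.decide_eq])); decide +kernel)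

theorem chk7b : C2 PE7 [1, 0, 0, 0, 0, 0, 0] [-1, 0, 0, 0, 0, 1, 0] [-1, 0, 0, 1, 0, -1, 0] 1 +
    C2 PE7 [1, 0, 0, 0, 0, 0, 0] [-1, 0, 0, 0, 0, 1, 0] [-1, 0, 0, 1, 0, -1, 0] (-1) = 8 := by decide +kernel

theorem chk7c : ∀ p ∈ PE7, ∃ q ∈ PE7, dotL [1, 0, 0, 0, 0, 0, 0] q.1 = 0 ∧ dotL p.2.1 q.1 = 0 := by decide +kernel

theorem chk7d : (PE7.filter fun q => dotL [1, 0, 0, 0, 0, 0, 0] q.1 % 2 == 0).length = 31 := by decide +kernel

theorem par7 : Par CoxeterMatrix.E₇ 1 ![2, 1, 3, 1, 3, 4, 5] 8 := ⟨by decide +kernel, rfl, by decide +kernel⟩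

theorem eq_E7 {M : CoxeterMatrix (Fin 7)} (hp : IsType chevE7 7 M) : M = CoxeterMatrix.E₇ := by
  simp only [IsType, typeList, List.mem_cons, List.not_mem_nil, or_false, Prod.mk.injEq] at hp
  rcases hp with ⟨h, e⟩ | ⟨h, e⟩ | ⟨h, e⟩ | ⟨h, e⟩ | ⟨h, e⟩ | ⟨h, e⟩ | ⟨h, e⟩
  · exact absurd (congrArg Sigma.fst e) (by norm_num)
  · exact absurd (congrArg Sigma.fst e) (by norm_num)
  · exact absurd (congrArg Sigma.fst e) (by norm_num)
  · exact absurd (congrArg Sigma.fst e) (by norm_num)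
  · exact absurd (congrArg Sigma.fst e) (by norm_num)
  · exact eq_of_heq (Sigma.mk.inj e).2
  · exact absurd (congrArg Sigma.fst e) (by norm_num)

set_option backward.isDefEq.respectTransparency false in
theorem n7 : (∀ i j, CoxeterMatrix.E₇ i j ≠ 4) ∧ ∀ i j, CoxeterMatrix.E₇ i j ≠ 6 := by
  constructor <;> decide +kernel

section E7

variable {M : CoxeterMatrix (Fin 7)} (hp : IsType chevE7 7 M) {W : Type*} [Group W] (cs : CoxeterSystem M W)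

theorem sl7 : SL cs hp.isCartan := by
  have := finite_W hp cs
  obtain rfl := eq_E7 hp
  exact fun _ _ hx hy => Nodes.SimplyLaced.cpr_symm cs _ n7.1 n7.2 hx hy

/-- **T1** -/
theorem trans7 {a b : Fin 7 → ℤ} (ha : IsRoot cs hp.isCartan a) (hb : IsRoot cs hp.isCartan b) :
    ∃ w : W, rep cs hp.isCartan w a = b := by
  obtain rfl := eq_E7 hp
  obtain ⟨w, hw⟩ := par7.trans (cs := cs) (h := hp.isCartan) ha
  obtain ⟨w', hw'⟩ := par7.trans (cs := cs) (h := hp.isCartan) hb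
  exact ⟨w'⁻¹ * w, by rw [rep_mul_apply, hw, ← hw', rep_inv_apply]⟩

theorem root_th7 : IsRoot cs hp.isCartan th7 := tb7.root rows7.1

theorem root_al7 : IsRoot cs hp.isCartan al7 := tb7.root rows7.2.1

theorem root_be7 : IsRoot cs hp.isCartan be7 := tb7.root rows7.2.2

/-- **T2** -/
theorem cnt7 {θ x : Fin 7 → ℤ} (hθ : IsRoot cs hp.isCartan θ) (hx : IsRoot cs hp.isCartan x)
    (h0 : cpr cs hp.isCartan x θ = 0) :
    {β | IsRoot cs hp.isCartan β ∧ cpr cs hp.isCartan β θ = 0 ∧ cpr cs hp.isCartan β x = 1}.ncard = 16 :=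
  have := finite_W hp cs
  tb7.cnt (sl7 hp cs) (fun _ _ ha hb => trans7 hp cs ha hb) rows7.1 chk7 hθ hx h0

/-- **T3** -/
theorem cnt7b : cpr cs hp.isCartan al7 th7 = 0 ∧ cpr cs hp.isCartan be7 th7 = 0 ∧ cpr cs hp.isCartan be7 al7 = 0 ∧
    {β | IsRoot cs hp.isCartan β ∧ cpr cs hp.isCartan β th7 = 0 ∧ cpr cs hp.isCartan β al7 = 0 ∧
      cpr cs hp.isCartan β be7 = 1}.ncard = 8 ∧
    {β | IsRoot cs hp.isCartan β ∧ cpr cs hp.isCartan β th7 = 0 ∧ cpr cs hp.isCartan β al7 = 0 ∧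
      cpr cs hp.isCartan β (-be7) = 1}.ncard = 8 :=
  have := finite_W hp cs
  tb7.ex2 (sl7 hp cs) rows7.1 rows7.2.1 rows7.2.2 (by decide +kernel) (by decide +kernel) (by decide +kernel) chk7b

/-- **T4** -/
theorem ex7 {θ r : Fin 7 → ℤ} (hθ : IsRoot cs hp.isCartan θ) (hr : IsRoot cs hp.isCartan r) :
    ∃ x, IsRoot cs hp.isCartan x ∧ cpr cs hp.isCartan x θ = 0 ∧ cpr cs hp.isCartan r x = 0 :=
  have := finite_W hp cs
  tb7.orth (sl7 hp cs) (fun _ _ ha hb => trans7 hp cs ha hb) rows7.1 chk7c hθ hr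

/-- **T7** -/
theorem ev7 : {x | IsRoot cs hp.isCartan x ∧ 0 ≤ x ∧ Even (cpr cs hp.isCartan x th7)}.ncard = 31 :=
  have := finite_W hp cs
  (tb7.even (sl7 hp cs) rows7.1).trans chk7d

end E7

/-! ### `E₈` -/

/-- the highest root of `E₈` -/
def th8 : Fin 8 → ℤ := toV [2, 3, 4, 6, 5, 4, 3, 2]

/-- the highest root of `{th8}^⊥` (`E₇`) -/
def al8 : Fin 8 → ℤ := toV [2, 2, 3, 4, 3, 2, 1, 0]

/-- the highest root of `{th8, al8}^⊥` (`D₆`) -/
def be8 : Fin 8 → ℤ := toV [0, 1, 1, 2, 2, 2, 1, 0]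

theorem eq_th8 : th8 = ![2, 3, 4, 6, 5, 4, 3, 2] ∧ al8 = ![2, 2, 3, 4, 3, 2, 1, 0] ∧ be8 = ![0, 1, 1, 2, 2, 2, 1, 0] := by
  decide +kernel

theorem tb8 : TB (cartanOf chevE8 8) PE8 := tb_of (CA := CAE8) (dl := dlE8) (by (refine of_decide_eq_true ?_; (try (rewrite [Cfsg.Agent.LsF.f794c3c_2.2, Cfsg.Agent.LsF.getD_eq, Cfsg.Agent.LsF.instIDecEq_eq, Cfsg.Agent.LsF.dListEq_eq, Cfsg.Agent.LsF.dForallFin_eq, Cfsg.Agent.LsF.ofFn_eq, Cfsg.Agent.LsF.decide_eq])); decide +kernel)) (by decide +kernel) chkE8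

/-- the rows -/
theorem rows8 : ([2, 3, 4, 6, 5, 4, 3, 2], [0, 0, 0, 0, 0, 0, 0, 1], 1) ∈ PE8 ∧
    ([2, 2, 3, 4, 3, 2, 1, 0], [1, 0, 0, 0, 0, 0, 0, -1], 1) ∈ PE8 ∧
    ([0, 1, 1, 2, 2, 2, 1, 0], [-1, 0, 0, 0, 0, 1, 0, -1], 1) ∈ PE8 := by decide +kernel

theorem chk8 : ∀ p ∈ PE8, dotL [0, 0, 0, 0, 0, 0, 0, 1] p.1 = 0 →
    C1 PE8 [0, 0, 0, 0, 0, 0, 0, 1] p.2.1 1 + C1 PE8 [0, 0, 0, 0, 0, 0, 0, 1] p.2.1 (-1) = 32 := by (refine of_decide_eq_true ?_; (try (rewrite [Cfsg.Agent.LsF.f794c3c_3.2, Cfsg.Agent.LsF.f794c3c_4.2, Cfsg.Agent.LsF.nadd_pat, Cfsg.Agent.LsF.ineg_pat, Cfsg.Agent.LsF.instDecEq_eq, Cfsg.Agent.LsF.instIDecEq_eq, Cfsg.Agent.LsF.dBAll_eq, Cfsg.Agent.LsF.dAllP_eq, Cfsg.Agent.LsF.decide_eq])); decide +kernel)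

theorem chk8b : C2 PE8 [0, 0, 0, 0, 0, 0, 0, 1] [1, 0, 0, 0, 0, 0, 0, -1] [-1, 0, 0, 0, 0, 1, 0, -1] 1 +
    C2 PE8 [0, 0, 0, 0, 0, 0, 0, 1] [1, 0, 0, 0, 0, 0, 0, -1] [-1, 0, 0, 0, 0, 1, 0, -1] (-1) = 16 := by decide +kernel

theorem chk8c : ∀ p ∈ PE8, ∃ q ∈ PE8, dotL [0, 0, 0, 0, 0, 0, 0, 1] q.1 = 0 ∧ dotL p.2.1 q.1 = 0 := by decide +kernel

theorem chk8d : (PE8.filter fun q => dotL [0, 0, 0, 0, 0, 0, 0, 1] q.1 % 2 == 0).length = 64 := by decide +kernel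

set_option backward.isDefEq.respectTransparency false in
theorem n8 : (∀ i j, CoxeterMatrix.E₈ i j ≠ 4) ∧ ∀ i j, CoxeterMatrix.E₈ i j ≠ 6 := by
  constructor <;> decide +kernel

section E8

variable {M : CoxeterMatrix (Fin 8)} (hp : IsType chevE8 8 M) {W : Type*} [Group W] (cs : CoxeterSystem M W)

theorem sl8 : SL cs hp.isCartan := by
  have := finite_W hp cs
  obtain rfl := X3.eq_E8 hp
  exact fun _ _ hx hy => Nodes.SimplyLaced.cpr_symm cs _ n8.1 n8.2 hx hy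

/-- **T1** -/
theorem trans8 {a b : Fin 8 → ℤ} (ha : IsRoot cs hp.isCartan a) (hb : IsRoot cs hp.isCartan b) :
    ∃ w : W, rep cs hp.isCartan w a = b := X3.trans8 hp cs ha hb

theorem root_th8 : IsRoot cs hp.isCartan th8 := tb8.root rows8.1

theorem root_al8 : IsRoot cs hp.isCartan al8 := tb8.root rows8.2.1

theorem root_be8 : IsRoot cs hp.isCartan be8 := tb8.root rows8.2.2

/-- **T2** -/
theorem cnt8 {θ x : Fin 8 → ℤ} (hθ : IsRoot cs hp.isCartan θ) (hx : IsRoot cs hp.isCartan x)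
    (h0 : cpr cs hp.isCartan x θ = 0) :
    {β | IsRoot cs hp.isCartan β ∧ cpr cs hp.isCartan β θ = 0 ∧ cpr cs hp.isCartan β x = 1}.ncard = 32 :=
  have := finite_W hp cs
  tb8.cnt (sl8 hp cs) (fun _ _ ha hb => trans8 hp cs ha hb) rows8.1 chk8 hθ hx h0

/-- **T3** -/
theorem cnt8b : cpr cs hp.isCartan al8 th8 = 0 ∧ cpr cs hp.isCartan be8 th8 = 0 ∧ cpr cs hp.isCartan be8 al8 = 0 ∧
    {β | IsRoot cs hp.isCartan β ∧ cpr cs hp.isCartan β th8 = 0 ∧ cpr cs hp.isCartan β al8 = 0 ∧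
      cpr cs hp.isCartan β be8 = 1}.ncard = 16 ∧
    {β | IsRoot cs hp.isCartan β ∧ cpr cs hp.isCartan β th8 = 0 ∧ cpr cs hp.isCartan β al8 = 0 ∧
      cpr cs hp.isCartan β (-be8) = 1}.ncard = 16 :=
  have := finite_W hp cs
  tb8.ex2 (sl8 hp cs) rows8.1 rows8.2.1 rows8.2.2 (by decide +kernel) (by decide +kernel) (by decide +kernel) chk8b

/-- **T4** -/
theorem ex8 {θ r : Fin 8 → ℤ} (hθ : IsRoot cs hp.isCartan θ) (hr : IsRoot cs hp.isCartan r) :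
    ∃ x, IsRoot cs hp.isCartan x ∧ cpr cs hp.isCartan x θ = 0 ∧ cpr cs hp.isCartan r x = 0 :=
  have := finite_W hp cs
  tb8.orth (sl8 hp cs) (fun _ _ ha hb => trans8 hp cs ha hb) rows8.1 chk8c hθ hr

/-- **T7** -/
theorem ev8 : {x | IsRoot cs hp.isCartan x ∧ 0 ≤ x ∧ Even (cpr cs hp.isCartan x th8)}.ncard = 64 :=
  have := finite_W hp cs
  (tb8.even (sl8 hp cs) rows8.1).trans chk8d

end E8

end Cfsg.Agent.H897.IF
end
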